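import Mathlib
import Cfsg.Agent.H566.BNPerm_m3
import Cfsg.Agent.Schreier.BNUse
import Cfsg.Agent.FastGrp
import Cfsg.Agent.Prune
set_option linter.all false
prune_inst 0x7f00000000000000000000000000000000000000000000000000000000000000000000000000000000000000000000000000000000000000000000000000000000000000000000000000000000000000003fffffffffffffffffffffffffffbeffbdffffffff
open scoped Cfsg.Agent.FastGrp

-- part: H520/FrobX
section
/-!
# Coprime automorphisms of a `p`-group acting regularly on the nonidentity elements of an `ℓ`-group (helper520)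

* `lemB` : a `p`-group `X` acting regularly on `R - 1`, `R` an `ℓ`-group, has no nontrivial automorphism of order
  prime to `p`, `ℓ` and `p - 1`;
* `lemC` : if `T` has at most two orbits on the nonidentity elements of the `p`-group `X`, every odd prime divisor of
  `p - 1` divides the order of `T`.
-/

set_option autoImplicit false

namespace Cfsg.Agent.H520

/-- `p ^ e + 1` is an odd multiple of `p + 1` for `e` odd. -/
theorem nt_odd {p e : ℕ} (hp : Odd p) (he : Odd e) : ∃ m, p ^ e + 1 = (p + 1) * (2 * m + 1) := by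
  obtain ⟨k, rfl⟩ := he
  obtain ⟨a, rfl⟩ := hp
  induction k with
  | zero => exact ⟨0, by ring⟩
  | succ k ih =>
    obtain ⟨m, hm⟩ := ih
    -- p^(2(k+1)+1) + 1 = p^2 * (p^(2k+1)+1) - (p^2 - 1)
    refine ⟨((2 * a + 1) ^ 2 * (2 * m + 1) - (2 * a)- 1) / 2, ?_⟩
    have h1 : (2 * a + 1) ^ (2 * (k + 1) + 1) + 1 + ((2 * a + 1) ^ 2 - 1) =
        (2 * a + 1) ^ 2 * ((2 * a + 1) ^ (2 * k + 1) + 1) := by
      have : 1 ≤ (2 * a + 1) ^ 2 := Nat.one_le_pow _ _ (by omega)
      have h2 : (2 * a + 1) ^ (2 * (k + 1) + 1) = (2 * a + 1) ^ 2 * (2 * a + 1) ^ (2 * k + 1) := by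
        rw [← pow_add]; congr 1; ring
      rw [h2, Nat.mul_add]
      omega
    rw [hm] at h1
    have h3 : (2 * a + 1) ^ 2 - 1 = (2 * a + 1 + 1) * (2 * a) := by
      have : (2 * a + 1) ^ 2 = (2 * a + 1 + 1) * (2 * a) + 1 := by ring
      omega
    rw [h3] at h1
    have h4 : (2 * a + 1) ^ 2 * (2 * m + 1) = 2 * ((2 * a ^ 2 + 2 * a) * (2 * m + 1) + m) + 1 := by ring
    have h5 : ((2 * a + 1) ^ 2 * (2 * m + 1) - (2 * a) - 1) / 2 = (2 * a ^ 2 + 2 * a) * (2 * m + 1) + m - a := by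
      omega
    rw [h5]
    have h6 : a ≤ (2 * a ^ 2 + 2 * a) * (2 * m + 1) + m := by nlinarith only []
    have h7 : (2 * a + 1) ^ (2 * (k + 1) + 1) + 1 + (2 * a + 1 + 1) * (2 * a) =
      (2 * a + 1 + 1) * (2 * ((2 * a ^ 2 + 2 * a) * (2 * m + 1) + m) + 1) := by
      rw [h1]; ring
    obtain ⟨d, hd⟩ := Nat.exists_eq_add_of_le h6
    rw [hd] at h7 ⊢
    have h8 : a + d - a = d := by omega
    rw [h8]
    linarith only [h7]

/-- `q ^ k - 1` is an odd multiple of `q - 1` for `k` odd. -/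
theorem nt_odd' {q k : ℕ} (hq : Odd q) (hk : Odd k) : ∃ m, q ^ k = (q - 1) * (2 * m + 1) + 1 := by
  obtain ⟨j, rfl⟩ := hk
  obtain ⟨a, rfl⟩ := hq
  induction j with
  | zero => exact ⟨0, by simp⟩
  | succ j ih =>
    obtain ⟨m, hm⟩ := ih
    refine ⟨(2 * a + 1) ^ 2 * m + 2 * a ^ 2 + 3 * a + 1, ?_⟩
    have h2 : (2 * a + 1) ^ (2 * (j + 1) + 1) = (2 * a + 1) ^ 2 * (2 * a + 1) ^ (2 * j + 1) := by
      rw [← pow_add]; congr 1; ring
    rw [h2, hm]
    have h3 : 2 * a + 1 - 1 = 2 * a := by omega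
    rw [h3]
    ring

theorem nt1 {p l e k : ℕ} (hp : p.Prime) (hp2 : p ≠ 2) (hl : l.Prime) (he : e ≠ 0) (h : l ^ k = p ^ e + 1) : e = 1 := by
  have hpo : Odd p := hp.odd_of_ne_two hp2
  have hpe : Odd (p ^ e) := hpo.pow
  have hk : k ≠ 0 := by
    rintro rfl
    have := Nat.one_le_pow e p hp.pos
    rw [pow_zero] at h
    omega
  have h2 : Even (l ^ k) := by rw [h]; exact hpe.add_one
  have hl2 : l = 2 := by
    rw [Nat.even_pow' hk] at h2
    exact (hl.even_iff).1 h2
  subst hl2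
  rcases Nat.even_or_odd e with he' | he'
  · exfalso
    obtain ⟨j, rfl⟩ := he'
    have h3 : p ^ (j + j) % 4 = 1 := by
      have h4 : p ^ (j + j) = (p ^ j) ^ 2 := by rw [← pow_mul]; congr 1; ring
      rw [h4]
      obtain ⟨c, hc⟩ := (hpo.pow : Odd (p ^ j))
      rw [hc]
      have : (2 * c + 1) ^ 2 = 4 * (c ^ 2 + c) + 1 := by ring
      omega
    have h5 : k ≤ 1 := by
      by_contra hk2
      obtain ⟨i, rfl⟩ : ∃ i, k = i + 2 := ⟨k - 2, by omega⟩
      rw [pow_add] at h
      omega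
    have h6 : k = 1 := by omega
    subst h6
    have h7 : 3 ≤ p := by
      have := hp.two_le
      omega
    have h8 : p ≤ p ^ (j + j) := Nat.le_self_pow he p
    omega
  · obtain ⟨m, hm⟩ := nt_odd hpo he'
    have h3 : 2 * m + 1 ∣ 2 ^ k := by rw [h, hm]; exact Dvd.intro_left _ rfl
    have h4 : 2 * m + 1 = 1 := by
      obtain ⟨i, -, hi⟩ := (Nat.dvd_prime_pow Nat.prime_two).1 h3
      rcases Nat.eq_zero_or_pos i with rfl | hi0
      · simpa using hi
      · exfalso
        obtain ⟨i', rfl⟩ : ∃ i', i = i' + 1 := ⟨i - 1, by omega⟩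
        rw [pow_succ] at hi
        omega
    rw [h4, mul_one] at hm
    have h5 : p ^ e = p ^ 1 := by rw [pow_one]; omega
    exact Nat.pow_right_injective hp.two_le h5

theorem nt2 {l e k : ℕ} (hl : l.Prime) (he : e ≠ 0) (h : l ^ k = 2 ^ e + 1) : k = 1 ∨ (l = 3 ∧ k = 2) := by
  have hlo : Odd l := by
    rw [← Nat.not_even_iff_odd]
    intro hev
    have h1 : l = 2 := (hl.even_iff).1 hev
    subst h1
    have hk : k ≠ 0 := by
      rintro rfl
      have := Nat.one_le_two_pow (n := e)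
      simp at h
    obtain ⟨i, rfl⟩ : ∃ i, k = i + 1 := ⟨k - 1, by omega⟩
    obtain ⟨j, rfl⟩ : ∃ j, e = j + 1 := ⟨e - 1, by omega⟩
    rw [pow_succ, pow_succ] at h
    omega
  rcases Nat.even_or_odd k with hk | hk
  · right
    obtain ⟨j, rfl⟩ := hk
    have hj : j ≠ 0 := by
      rintro rfl
      simp at h
    have h1 : l ^ (j + j) = (l ^ j) * (l ^ j) := pow_add _ _ _
    rw [h1] at h
    have hlj : 3 ≤ l ^ j := by
      have h3 : 3 ≤ l := by
        have := hl.two_le
        rcases hlo with ⟨c, hc⟩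
        omega
      exact h3.trans (Nat.le_self_pow hj l)
    have h2 : (l ^ j - 1) * (l ^ j + 1) = 2 ^ e := by
      obtain ⟨c, hc⟩ : ∃ c, l ^ j = c + 1 := ⟨l ^ j - 1, by omega⟩
      rw [hc] at h ⊢
      have h5 : (c + 1) * (c + 1) = c * (c + 1 + 1) + 1 := by ring
      rw [Nat.add_sub_cancel]
      omega
    obtain ⟨a, -, ha⟩ := (Nat.dvd_prime_pow Nat.prime_two).1 (Dvd.intro _ h2)
    obtain ⟨b, -, hb⟩ := (Nat.dvd_prime_pow Nat.prime_two).1 (Dvd.intro_left _ h2)
    have ha1 : a = 1 := by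
      rcases Nat.lt_trichotomy a 1 with h3 | h3 | h3
      · have : a = 0 := by omega
        subst this
        simp at ha
        omega
      · exact h3
      · exfalso
        obtain ⟨a', rfl⟩ : ∃ a', a = a' + 2 := ⟨a - 2, by omega⟩
        have hb2 : 2 ≤ b := by
          by_contra hb2
          have : b = 0 ∨ b = 1 := by omega
          rcases this with rfl | rfl
          · rw [pow_zero] at hb
            omega
          · rw [pow_one] at hb
            omega
        obtain ⟨b', rfl⟩ : ∃ b', b = b' + 2 := ⟨b - 2, by omega⟩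
        rw [pow_add] at ha hb
        generalize 2 ^ a' = u at ha
        generalize 2 ^ b' = v at hb
        omega
    subst ha1
    have h3 : l ^ j = 3 := by
      rw [pow_one] at ha
      omega
    have h4 : l ∣ 3 := by rw [← h3]; exact dvd_pow_self l hj
    have h5 : l = 3 := (Nat.prime_dvd_prime_iff_eq hl Nat.prime_three).1 h4
    subst h5
    have h6 : j = 1 := by
      have : 3 ^ j = 3 ^ 1 := by rw [h3, pow_one]
      exact Nat.pow_right_injective (by norm_num) this
    exact ⟨rfl, by omega⟩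
  · left
    obtain ⟨m, hm⟩ := nt_odd' hlo hk
    have h1 : (l - 1) * (2 * m + 1) = 2 ^ e := by omega
    have h3 : 2 * m + 1 ∣ 2 ^ e := Dvd.intro_left _ h1
    have h4 : 2 * m + 1 = 1 := by
      obtain ⟨i, -, hi⟩ := (Nat.dvd_prime_pow Nat.prime_two).1 h3
      rcases Nat.eq_zero_or_pos i with rfl | hi0
      · simpa using hi
      · exfalso
        obtain ⟨i', rfl⟩ : ∃ i', i = i' + 1 := ⟨i - 1, by omega⟩
        rw [pow_succ] at hi
        omega
    rw [h4, mul_one] at hm
    have h5 : l ^ k = l ^ 1 := by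
      have := hl.two_le
      rw [pow_one]; omega
    exact Nat.pow_right_injective hl.two_le h5

/-- Automorphisms of cyclic `p`-groups. -/
theorem aut_cyc {X : Type*} [Group X] [Finite X] (hc : IsCyclic X) {p e : ℕ} (hp : p.Prime)
    (hX : Nat.card X = p ^ e) {β : MulAut X} (h1 : (orderOf β).Coprime p) (h2 : (orderOf β).Coprime (p - 1)) :
    β = 1 := by
  have h3 : orderOf β ∣ (Nat.card X).totient := by
    rw [← IsCyclic.card_mulAut]
    exact orderOf_dvd_natCard β
  rcases Nat.eq_zero_or_pos e with rfl | he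
  · rw [hX, pow_zero, Nat.totient_one] at h3
    exact orderOf_eq_one_iff.1 (Nat.dvd_one.1 h3)
  · rw [hX, Nat.totient_prime_pow hp he] at h3
    have h4 : (orderOf β).Coprime (p ^ (e - 1) * (p - 1)) := Nat.Coprime.mul_right (Nat.Coprime.pow_right _ h1) h2
    exact orderOf_eq_one_iff.1 (Nat.Coprime.eq_one_of_dvd h4 h3)

/-- the number of fixed points of an automorphism of prime order -/
theorem card_fix {X : Type*} [Group X] [Finite X] {γ : MulAut X} {r : ℕ} (hr : r.Prime) (hγ : orderOf γ = r) :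
    ∃ F : Subgroup X, (∀ x, x ∈ F ↔ γ x = x) ∧ Nat.card X ≡ Nat.card F [MOD r] := by
  have hrf : Fact r.Prime := ⟨hr⟩
  refine ⟨MonoidHom.eqLocus γ.toMonoidHom (MonoidHom.id X), fun x => Iff.rfl, ?_⟩
  have h1 : IsPGroup r (Subgroup.zpowers γ) := IsPGroup.of_card (n := 1) (by rw [Nat.card_zpowers, hγ, pow_one])
  have h2 := h1.card_modEq_card_fixedPoints X
  have h3 : MulAction.fixedPoints (Subgroup.zpowers γ) X =
      ((MonoidHom.eqLocus γ.toMonoidHom (MonoidHom.id X) : Subgroup X) : Set X) := by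
    ext x
    constructor
    · intro h
      exact h ⟨γ, Subgroup.mem_zpowers γ⟩
    · rintro h ⟨g, hg⟩
      have h4 : γ ∈ MulAction.stabilizer (MulAut X) x := h
      exact (Subgroup.zpowers_le.2 h4) hg
  rw [h3] at h2
  exact h2

/-- Groups of order 8 acting without fixed points on groups of order 9. -/
theorem aut_nine {X R : Type*} [Group X] [Finite X] [Group R] [Finite R] (hX : Nat.card X = 8) (hR : Nat.card R = 9)
    (φ : X →* MulAut R) (hfree : ∀ x : X, x ≠ 1 → ∀ r : R, φ x r = r → r = 1)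
    {β : MulAut X} (h2 : (orderOf β).Coprime 2) (h3 : (orderOf β).Coprime 3) : β = 1 := by
  by_contra hne
  have hne' : orderOf β ≠ 1 := fun h => hne (orderOf_eq_one_iff.1 h)
  obtain ⟨r, hr, hrd⟩ := Nat.exists_prime_and_dvd hne'
  have hβ0 : orderOf β ≠ 0 := (orderOf_pos β).ne'
  have hγ : orderOf (β ^ (orderOf β / r)) = r := orderOf_pow_orderOf_div hβ0 hrd
  have hr2 : r ≠ 2 := by
    rintro rfl
    have := Nat.dvd_gcd hrd (dvd_refl 2)
    rw [h2] at this
    omega
  have hr3 : r ≠ 3 := by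
    rintro rfl
    have := Nat.dvd_gcd hrd (dvd_refl 3)
    rw [h3] at this
    omega
  -- commutativity
  have h3p : Fact (Nat.Prime 3) := ⟨Nat.prime_three⟩
  have hcomm : ∀ a b : R, a * b = b * a := by
    have := IsPGroup.isMulCommutative_of_card_eq_prime_sq (p := 3) (G := R) (by rw [hR]; norm_num)
    exact this.is_comm.comm
  have hinv : ∀ t : X, orderOf t = 2 → ∀ a, φ t a = a⁻¹ := by
    intro t ht a
    have ht1 : t ≠ 1 := by
      rintro rfl
      rw [orderOf_one] at ht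
      omega
    have htt : t * t = 1 := by
      have := pow_orderOf_eq_one t
      rwa [ht, pow_two] at this
    have h5 : φ t (φ t a) = a := by
      rw [← MulAut.mul_apply, ← map_mul, htt, map_one, MulAut.one_apply]
    have h4 := hfree t ht1 (a * φ t a) (by rw [map_mul, h5, hcomm])
    exact (inv_eq_of_mul_eq_one_right h4).symm
  have huniq : ∀ t t' : X, orderOf t = 2 → orderOf t' = 2 → t = t' := by
    intro t t' ht ht'
    by_contra hc
    have h5 : t * t'⁻¹ ≠ 1 := fun h => hc (mul_inv_eq_one.1 h)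
    have h6 : ∀ a, a = (1 : R) := by
      intro a
      apply hfree _ h5
      rw [map_mul, MulAut.mul_apply, map_inv]
      have h7 : (φ t')⁻¹ a = a⁻¹ := by
        have h8 := hinv t' ht' a⁻¹
        rw [inv_inv] at h8
        rw [MulAut.inv_def, MulEquiv.symm_apply_eq, h8]
      rw [h7, hinv t ht, inv_inv]
    have h7 : Nat.card R = 1 := Nat.card_eq_one_iff_exists.2 ⟨1, h6⟩
    omega
  have h2p : Fact (Nat.Prime 2) := ⟨Nat.prime_two⟩
  obtain ⟨z, hz⟩ := exists_prime_orderOf_dvd_card' (G := X) 2 (by rw [hX]; norm_num)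
  obtain ⟨F, hF, hcard⟩ := card_fix hr hγ
  set γ := β ^ (orderOf β / r) with hγd
  have hzF : z ∈ F := by
    rw [hF]
    apply huniq _ _ _ hz
    rw [← hz]
    exact orderOf_injective γ.toMonoidHom γ.injective z
  have hFd : Nat.card F ∣ 2 ^ 3 := by
    have := F.card_subgroup_dvd_card
    rw [hX] at this
    exact this
  obtain ⟨i, hi, hFi⟩ := (Nat.dvd_prime_pow Nat.prime_two).1 hFd
  rw [hX] at hcard
  have hd := (Nat.modEq_iff_dvd' (by
    rw [← hX]
    exact F.card_le_card_group)).1 hcard.symm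
  have hi3 : i = 3 := by
    interval_cases i
    · exfalso
      have h5 : F = ⊥ := Subgroup.card_eq_one.1 (by rw [hFi]; norm_num)
      rw [h5, Subgroup.mem_bot] at hzF
      rw [hzF, orderOf_one] at hz
      omega
    · exfalso
      rw [hFi] at hd
      have h5 : r ∣ 2 * 3 := hd
      rcases (hr.dvd_mul).1 h5 with h6 | h6
      · exact hr2 ((Nat.prime_dvd_prime_iff_eq hr Nat.prime_two).1 h6)
      · exact hr3 ((Nat.prime_dvd_prime_iff_eq hr Nat.prime_three).1 h6)
    · exfalso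
      rw [hFi] at hd
      have h5 : r ∣ 2 * 2 := hd
      rcases (hr.dvd_mul).1 h5 with h6 | h6
      · exact hr2 ((Nat.prime_dvd_prime_iff_eq hr Nat.prime_two).1 h6)
      · exact hr2 ((Nat.prime_dvd_prime_iff_eq hr Nat.prime_two).1 h6)
    · rfl
  subst hi3
  have hFt : F = ⊤ := Subgroup.eq_top_of_card_eq F (by rw [hFi, hX]; norm_num)
  have hγ1 : γ = 1 := by
    apply MulEquiv.ext
    intro x
    have : x ∈ F := by rw [hFt]; trivial
    exact (hF x).1 this
  rw [hγ1, orderOf_one] at hγ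
  exact hr.ne_one hγ.symm

/-- **Lemma B.** -/
theorem lemB {X R : Type*} [Group X] [Finite X] [Group R] [Finite R] {p l e k : ℕ} (hp : p.Prime) (hl : l.Prime)
    (hX : Nat.card X = p ^ e) (hR : Nat.card R = l ^ k) (hRX : Nat.card R = Nat.card X + 1)
    (φ : X →* MulAut R) (hfree : ∀ x : X, x ≠ 1 → ∀ r : R, φ x r = r → r = 1)
    {β : MulAut X} (h1 : (orderOf β).Coprime p) (h2 : (orderOf β).Coprime (p - 1)) (h3 : (orderOf β).Coprime l) :
    β = 1 := by
  rcases Nat.eq_zero_or_pos e with rfl | he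
  · have : Subsingleton X := (Nat.card_eq_one_iff_unique.1 (by rw [hX, pow_zero])).1
    apply MulEquiv.ext
    intro x
    exact Subsingleton.elim _ _
  have h4 : l ^ k = p ^ e + 1 := by rw [← hR, ← hX, hRX]
  by_cases hp2 : p = 2
  · subst hp2
    rcases nt2 hl he.ne' h4 with rfl | ⟨rfl, rfl⟩
    · rw [pow_one] at hR
      have hlf : Fact l.Prime := ⟨hl⟩
      have hRc : IsCyclic R := isCyclic_of_prime_card hR
      have hfc : Finite (ZMod (Nat.card R))ˣ := by
        rw [hR]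
        infer_instance
      have hu : IsCyclic (ZMod (Nat.card R))ˣ := by
        rw [hR]
        infer_instance
      have hinj : Function.Injective ((IsCyclic.mulAutMulEquiv R).toMonoidHom.comp φ) := by
        rw [injective_iff_map_eq_one]
        intro x hx
        by_contra hne
        have h5 : φ x = 1 := (IsCyclic.mulAutMulEquiv R).injective (by rw [map_one]; exact hx)
        have h6 : ∀ r : R, r = 1 := by
          intro r
          apply hfree x hne
          rw [h5, MulAut.one_apply]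
        have h7 : Nat.card R = 1 := Nat.card_eq_one_iff_exists.2 ⟨1, h6⟩
        rw [hR] at h7
        exact hl.ne_one h7
      exact aut_cyc (isCyclic_of_injective _ hinj) Nat.prime_two hX h1 h2
    · have h5 : Nat.card R = 9 := by rw [hR]; norm_num
      exact aut_nine (by omega) h5 φ hfree h1 h3
  · have he1 := nt1 hp hp2 hl he.ne' h4
    subst he1
    have hpf : Fact p.Prime := ⟨hp⟩
    exact aut_cyc (isCyclic_of_prime_card (by rw [hX, pow_one])) hp hX h1 h2

end Cfsg.Agent.H520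
end

-- part: H520/NodeN
section
/-!
# Coprime automorphisms of minimal parabolic subgroups (helper520)

* `exists_abel` : a nontrivial solvable normal subgroup contains a nontrivial abelian normal `l`-subgroup;
* `node0`, `node1` : if `[M, τ]` is solvable, `M = B ∪ U s B` with `U / V` regular on the cosets outside `B`, then
  `s⁻¹ τ(s) ∈ B`;
* `node` : the same for a minimal parabolic subgroup of a (B, N)-pair.
-/

set_option autoImplicit false
set_option linter.unusedSectionVars false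

namespace Cfsg.Agent.H520

open Subgroup

theorem exists_abel {G : Type*} [Group G] [Finite G] (N : Subgroup G) (hNn : N.Normal) (hs : Group.IsSolvable N)
    (hb : N ≠ ⊥) : ∃ (l : ℕ) (R : Subgroup G), l.Prime ∧ R.Normal ∧ R ≠ ⊥ ∧ R ≤ N ∧ IsPGroup l R ∧
      ∀ a ∈ R, ∀ b ∈ R, a * b = b * a := by
  obtain ⟨D, ⟨hD1, hD2, hD3⟩, hmin⟩ := Set.exists_min_image {D : Subgroup G | D.Normal ∧ D ≠ ⊥ ∧ D ≤ N}
    (fun D : Subgroup G => Nat.card D) (Set.toFinite _) ⟨N, hNn, hb, le_rfl⟩
  have hcomm : ∀ a ∈ D, ∀ b ∈ D, a * b = b * a := by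
    have hDs : Group.IsSolvable D :=
      Group.isSolvable_of_isSolvable_injective (f := Subgroup.inclusion hD3) (Subgroup.inclusion_injective hD3)
    have hDnt : Nontrivial D := (nontrivial_iff_ne_bot D).2 hD2
    have h1 := Group.IsSolvable.commutator_lt_top_of_nontrivial (G := D)
    have h2 : ⁅D, D⁆ ≤ D := commutator_le_left D D
    have h3 : ⁅D, D⁆ = ⊥ := by
      by_contra hne
      have h4 : D = ⁅D, D⁆ := by
        symm
        exact eq_of_le_of_card_ge h2 (hmin _ ⟨inferInstance, hne, h2.trans hD3⟩)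
      apply h1.ne
      have h5 : (commutator D).map D.subtype = ⁅D, D⁆ := by
        rw [commutator_def, map_commutator, ← MonoidHom.range_eq_map, range_subtype]
      have h6 : (commutator D).map D.subtype = (⊤ : Subgroup D).map D.subtype := by
        rw [h5, ← h4, ← MonoidHom.range_eq_map, range_subtype]
      exact map_injective D.subtype_injective h6
    intro a ha b hb
    have h4 := commutator_mem_commutator ha hb
    rw [h3, mem_bot, commutatorElement_eq_one_iff_mul_comm] at h4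
    exact h4
  have hc1 : Nat.card D ≠ 1 := fun h => hD2 (card_eq_one.1 h)
  obtain ⟨l, hl, hld⟩ := Nat.exists_prime_and_dvd hc1
  have hlf : Fact l.Prime := ⟨hl⟩
  obtain ⟨x, hx⟩ := exists_prime_orderOf_dvd_card' l hld
  let R : Subgroup G :=
    { carrier := {y | y ∈ D ∧ y ^ l = 1}
      mul_mem' := fun {a b} ha hb => ⟨mul_mem ha.1 hb.1, by
        have : Commute a b := hcomm a ha.1 b hb.1
        rw [this.mul_pow, ha.2, hb.2, one_mul]⟩
      one_mem' := ⟨one_mem _, one_pow _⟩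
      inv_mem' := fun {a} ha => ⟨inv_mem ha.1, by rw [inv_pow, ha.2, inv_one]⟩ }
  refine ⟨l, R, hl, ⟨?_⟩, ?_, ?_, ?_, ?_⟩
  · rintro y ⟨hy, hyl⟩ g
    refine ⟨hD1.conj_mem y hy g, ?_⟩
    rw [conj_pow, hyl, mul_one, mul_inv_cancel]
  · intro hR
    have h1 : (x : G) ∈ R := ⟨x.2, by
      rw [← SubgroupClass.coe_pow, ← hx, pow_orderOf_eq_one]; rfl⟩
    rw [hR, mem_bot] at h1
    have h2 : x = 1 := Subtype.ext h1
    rw [h2, orderOf_one] at hx
    exact hl.ne_one hx.symm
  · exact fun y hy => hD3 hy.1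
  · rintro ⟨y, hy, hyl⟩
    exact ⟨1, by
      apply Subtype.ext
      rw [pow_one]
      exact hyl⟩
  · exact fun a ha b hb => hcomm a ha.1 b hb.1

/-- The core free case. -/
theorem node0 {M : Type*} [Group M] [Finite M] {B U : Subgroup M} {s : M} (hcf : B.normalCore = ⊥) (hsB : s ∉ B)
    (hUB : U ≤ B) (hdec : ∀ g, g ∉ B → ∃ u ∈ U, ∃ b ∈ B, g = u * s * b)
    (hstab : ∀ u ∈ U, s⁻¹ * u * s ∈ B → u = 1) {p : ℕ} (hp : p.Prime) (hU : IsPGroup p U) (τ : MulAut M)
    (hU' : ∀ u ∈ U, τ u ∈ U) (hB' : ∀ b ∈ B, τ b ∈ B) (hτ : (orderOf τ).Coprime (Nat.card M))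
    (hpp : (orderOf τ).Coprime p) (hp1 : (orderOf τ).Coprime (p - 1)) (hsol : Group.IsSolvable (cG τ)) :
    s⁻¹ * τ s ∈ B := by
  by_cases hbot : cG τ = ⊥
  · have h1 := mem_cG τ s
    rw [hbot, mem_bot] at h1
    rw [h1]
    exact one_mem _
  obtain ⟨l, R, hl, hRn, hRb, -, hRl, hRc⟩ := exists_abel (cG τ) (cG_normal τ) hsol hbot
  -- `R B = M`
  have hRB : R ⊔ B = ⊤ := by
    obtain ⟨r, hr, hrB⟩ : ∃ r ∈ R, r ∉ B := by
      by_contra hcon
      push Not at hcon
      apply hRb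
      have h1 := (normal_le_normalCore (H := B)).2 (show R ≤ B from hcon)
      rwa [hcf, le_bot_iff] at h1
    obtain ⟨u, hu, b, hb, e⟩ := hdec r hrB
    have hs : s ∈ R ⊔ B := by
      have h1 : s = u⁻¹ * r * b⁻¹ := by rw [e]; group
      rw [h1]
      exact mul_mem (mul_mem (mem_sup_right (inv_mem (hUB hu))) (mem_sup_left hr)) (mem_sup_right (inv_mem hb))
    rw [eq_top_iff]
    intro g _
    by_cases hg : g ∈ B
    · exact mem_sup_right hg
    · obtain ⟨u, hu, b, hb, rfl⟩ := hdec g hg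
      exact mul_mem (mul_mem (mem_sup_right (hUB hu)) hs) (mem_sup_right hb)
  have hdec' : ∀ g : M, ∃ r ∈ R, ∃ b ∈ B, g = r * b := by
    intro g
    have h1 : g ∈ R ⊔ B := by rw [hRB]; trivial
    rw [← SetLike.mem_coe, normal_mul R B, Set.mem_mul] at h1
    obtain ⟨r, hr, b, hb, e⟩ := h1
    exact ⟨r, hr, b, hb, e.symm⟩
  -- `R ∩ B = 1`
  have hinf : ∀ x ∈ R, x ∈ B → x = 1 := by
    have hn : (R ⊓ B).Normal := by
      constructor
      intro x hx g
      obtain ⟨r, hr, b, hb, rfl⟩ := hdec' g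
      have h1 : b * x * b⁻¹ ∈ R := hRn.conj_mem x hx.1 b
      have h2 : r * b * x * (r * b)⁻¹ = b * x * b⁻¹ := by
        calc r * b * x * (r * b)⁻¹ = (r * (b * x * b⁻¹)) * r⁻¹ := by group
          _ = (b * x * b⁻¹ * r) * r⁻¹ := by rw [hRc r hr _ h1]
          _ = b * x * b⁻¹ := by group
      rw [h2]
      exact ⟨h1, B.mul_mem (B.mul_mem hb hx.2) (B.inv_mem hb)⟩
    have h1 := (normal_le_normalCore (H := B)).2 (inf_le_right : R ⊓ B ≤ B)
    rw [hcf] at h1
    exact fun x hx hxB => mem_bot.1 (h1 ⟨hx, hxB⟩)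
  obtain ⟨r₀, hr₀, b₀, hb₀, e₀⟩ := hdec' s
  have hr₀B : r₀ ∉ B := fun h => hsB (by rw [e₀]; exact mul_mem h hb₀)
  -- `U` is regular on `R - 1`
  have hreg : ∀ r ∈ R, r ≠ 1 → ∃ u ∈ U, r = u * r₀ * u⁻¹ := by
    intro r hr hr1
    have hrB : r ∉ B := fun h => hr1 (hinf r hr h)
    obtain ⟨u, hu, b, hb, e⟩ := hdec r hrB
    refine ⟨u, hu, ?_⟩
    have h1 : (u * r₀ * u⁻¹)⁻¹ * r ∈ B := by
      have h2 : (u * r₀ * u⁻¹)⁻¹ * r = u * b₀ * b := by
        rw [e, e₀]; group
      rw [h2]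
      exact mul_mem (mul_mem (hUB hu) hb₀) hb
    have h2 := hinf _ (R.mul_mem (R.inv_mem (hRn.conj_mem r₀ hr₀ u)) hr) h1
    exact (inv_mul_eq_one.1 h2).symm
  have hst₀ : ∀ u ∈ U, u * r₀ * u⁻¹ = r₀ → u = 1 := by
    intro u hu h
    apply hstab u hu
    have h1 : s⁻¹ * u * s = b₀⁻¹ * (r₀⁻¹ * (u * r₀ * u⁻¹)) * u * b₀ := by
      rw [e₀]; group
    rw [h1, h, inv_mul_cancel, mul_one]
    exact mul_mem (mul_mem (inv_mem hb₀) (hUB hu)) hb₀
  have hr₀1 : r₀ ≠ 1 := fun h => hr₀B (by rw [h]; exact one_mem _)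
  have hcard : Nat.card R = Nat.card U + 1 := by
    have e : Option U ≃ R := Equiv.ofBijective
      (fun o => Option.elim o (1 : R) fun u => ⟨u.1 * r₀ * u.1⁻¹, hRn.conj_mem r₀ hr₀ u.1⟩) (by
        have hne : ∀ u : U, (⟨u.1 * r₀ * u.1⁻¹, hRn.conj_mem r₀ hr₀ u.1⟩ : R) ≠ 1 := by
          intro u h
          have h1 : u.1 * r₀ * u.1⁻¹ = 1 := congrArg Subtype.val h
          rw [conj_eq_one_iff] at h1
          exact hr₀1 h1
        constructor
        · rintro (_ | u) (_ | u') h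
          · rfl
          · exact absurd h.symm (hne u')
          · exact absurd h (hne u)
          · have h1 : u.1 * r₀ * u.1⁻¹ = u'.1 * r₀ * u'.1⁻¹ := congrArg Subtype.val h
            have h2 : (u'.1⁻¹ * u.1) * r₀ * (u'.1⁻¹ * u.1)⁻¹ = r₀ := by
              calc (u'.1⁻¹ * u.1) * r₀ * (u'.1⁻¹ * u.1)⁻¹ = u'.1⁻¹ * (u.1 * r₀ * u.1⁻¹) * u'.1 := by group
                _ = r₀ := by rw [h1]; group
            have h3 := hst₀ _ (mul_mem (inv_mem u'.2) u.2) h2
            rw [Option.some_inj]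
            exact Subtype.ext (inv_mul_eq_one.1 h3).symm
        · rintro ⟨r, hr⟩
          by_cases hr1 : r = 1
          · exact ⟨none, Subtype.ext hr1.symm⟩
          · obtain ⟨u, hu, e⟩ := hreg r hr hr1
            exact ⟨some ⟨u, hu⟩, Subtype.ext e.symm⟩)
    rw [← Nat.card_congr e, Finite.card_option]
  have hpf : Fact p.Prime := ⟨hp⟩
  have hlf : Fact l.Prime := ⟨hl⟩
  obtain ⟨e, he⟩ := IsPGroup.iff_card.1 hU
  obtain ⟨k, hk⟩ := IsPGroup.iff_card.1 hRl
  have hUfix : ∀ u ∈ U, τ u = u := by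
    have hcop : ∀ m : ℕ, (orderOf τ).Coprime m → (orderOf (resA τ U hU')).Coprime m := fun m hm =>
      hm.coprime_dvd_left (orderOf_resA_dvd τ U hU')
    have hl' : (orderOf τ).Coprime l := by
      refine hτ.coprime_dvd_right ?_
      have h1 : l ∣ Nat.card R := by
        rw [hk]
        refine dvd_pow_self l ?_
        rintro rfl
        rw [pow_zero] at hk
        exact hRb (card_eq_one.1 hk)
      exact h1.trans (card_subgroup_dvd_card R)
    have h1 := lemB (X := U) (R := R) hp hl he hk hcard ((MulAut.conjNormal (H := R)).comp U.subtype)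
      (by
        rintro ⟨u, hu⟩ hu1 ⟨r, hr⟩ h
        by_contra hr1
        have hr1' : r ≠ 1 := fun h => hr1 (Subtype.ext h)
        obtain ⟨v, hv, rfl⟩ := hreg r hr hr1'
        apply hu1
        have h2 : u * (v * r₀ * v⁻¹) * u⁻¹ = v * r₀ * v⁻¹ := by
          have h3 := congrArg Subtype.val h
          simpa only [_root_.MonoidHom.coe_comp, _root_.Subgroup.coe_subtype, _root_.Function.comp_apply, _root_.MulAut.conjNormal_apply] using h3
        have h3 : (v⁻¹ * u * v) * r₀ * (v⁻¹ * u * v)⁻¹ = r₀ := by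
          calc (v⁻¹ * u * v) * r₀ * (v⁻¹ * u * v)⁻¹ = v⁻¹ * (u * (v * r₀ * v⁻¹) * u⁻¹) * v := by group
            _ = r₀ := by rw [h2]; group
        have h4 := hst₀ _ (mul_mem (mul_mem (inv_mem hv) hu) hv) h3
        apply Subtype.ext
        show u = 1
        have h5 : u = v * (v⁻¹ * u * v) * v⁻¹ := by group
        rw [h5, h4, mul_one, mul_inv_cancel])
      (β := resA τ U hU') (hcop _ hpp) (hcop _ hp1) (hcop _ hl')
    intro u hu
    have h2 := congrArg (fun z : MulAut U => ((z ⟨u, hu⟩ : U) : M)) h1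
    exact h2
  have hτs : τ s ∉ B := fun h => hsB (by
    have h1 := symm_mem_of_inv hB' h
    rwa [MulAut.inv_apply_self] at h1)
  obtain ⟨u₁, hu₁, b₁, hb₁, e₁⟩ := hdec _ hτs
  have hit : ∀ n : ℕ, ∃ b ∈ B, (τ ^ n : MulAut M) s = u₁ ^ n * s * b := by
    intro n
    induction n with
    | zero => exact ⟨1, one_mem _, by simp⟩
    | succ n ih =>
      obtain ⟨b, hb, e⟩ := ih
      refine ⟨b₁ * τ b, mul_mem hb₁ (hB' b hb), ?_⟩
      rw [pow_succ', MulAut.mul_apply, e, map_mul, map_mul, map_pow, hUfix u₁ hu₁, e₁, pow_succ]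
      group
  obtain ⟨b, hb, e⟩ := hit (orderOf τ)
  rw [pow_orderOf_eq_one, MulAut.one_apply] at e
  have h1 : u₁ ^ orderOf τ = 1 := by
    apply hstab _ (pow_mem hu₁ _)
    have h2 : s⁻¹ * u₁ ^ orderOf τ * s = b⁻¹ := by
      have h3 : u₁ ^ orderOf τ * s = s * b⁻¹ := by
        conv_rhs => rw [e]
        group
      rw [mul_assoc, h3, inv_mul_cancel_left]
    rw [h2]
    exact inv_mem hb
  have h2 : u₁ = 1 := by
    have h3 := orderOf_dvd_of_pow_eq_one h1
    have h4 : orderOf u₁ ∣ Nat.card M := _root_.orderOf_dvd_natCard _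
    have h5 := Nat.dvd_gcd h3 h4
    rw [hτ] at h5
    exact orderOf_eq_one_iff.1 (Nat.dvd_one.1 h5)
  rw [e₁, h2, one_mul, inv_mul_cancel_left]
  exact hb₁

/-- **The node theorem.** -/
theorem node1 {M : Type*} [Group M] [Finite M] {B U V : Subgroup M} {s : M} (hsB : s ∉ B)
    (hUB : U ≤ B) (hdec : ∀ g, g ∉ B → ∃ u ∈ U, ∃ b ∈ B, g = u * s * b)
    (hVB : V ≤ B) (hVn : V.Normal)
    (hstab : ∀ u ∈ U, s⁻¹ * u * s ∈ B → u ∈ V) {p : ℕ} (hp : p.Prime) (hU : IsPGroup p U) (τ : MulAut M)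
    (hU' : ∀ u ∈ U, τ u ∈ U) (hB' : ∀ b ∈ B, τ b ∈ B) (hτ : (orderOf τ).Coprime (Nat.card M))
    (hpp : (orderOf τ).Coprime p) (hp1 : (orderOf τ).Coprime (p - 1)) (hsol : Group.IsSolvable (cG τ)) :
    s⁻¹ * τ s ∈ B := by
  set Q := B.normalCore with hQ
  have hQB : Q ≤ B := normalCore_le B
  have hQτ : ∀ x ∈ Q, τ x ∈ Q := by
    have h1 : (Q.map τ.toMonoidHom).Normal := (inferInstance : Q.Normal).map _ τ.surjective
    have h2 : Q.map τ.toMonoidHom ≤ B := by
      rintro _ ⟨x, hx, rfl⟩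
      exact hB' x (hQB hx)
    have h3 := (normal_le_normalCore (H := B)).2 h2
    exact fun x hx => h3 (mem_map_of_mem _ hx)
  let π := QuotientGroup.mk' Q
  have hmem : ∀ g : M, π g ∈ B.map π ↔ g ∈ B := by
    intro g
    constructor
    · rintro ⟨b, hb, e⟩
      have h1 : b⁻¹ * g ∈ Q := QuotientGroup.eq.1 e
      have h2 := mul_mem hb (hQB h1)
      rwa [mul_inv_cancel_left] at h2
    · exact fun h => mem_map_of_mem _ h
  have hsol' : Group.IsSolvable (cG (quoA τ Q hQτ)) := by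
    rw [← map_cG_quoA]
    exact Group.isSolvable_of_surjective (f := (QuotientGroup.mk' Q).subgroupMap (cG τ))
      ((QuotientGroup.mk' Q).subgroupMap_surjective (cG τ))
  have h := node0 (M := M ⧸ Q) (B := B.map π) (U := U.map π) (s := π s) ?_ (fun h => hsB ((hmem s).1 h))
    (map_mono hUB) ?_ ?_ hp (hU.map π) (quoA τ Q hQτ) ?_ ?_ (coprime_quoA hτ Q hQτ)
    (hpp.coprime_dvd_left (orderOf_quoA_dvd τ Q hQτ)) (hp1.coprime_dvd_left (orderOf_quoA_dvd τ Q hQτ)) hsol'
  · have h1 : (π s)⁻¹ * quoA τ Q hQτ (π s) = π (s⁻¹ * τ s) := by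
      rw [map_mul, map_inv]; rfl
    rw [h1] at h
    exact (hmem _).1 h
  · -- core free
    rw [eq_bot_iff]
    have h1 : ((B.map π).normalCore.comap π).Normal := inferInstance
    have h2 : (B.map π).normalCore.comap π ≤ B := by
      intro x hx
      rw [← hmem]
      exact normalCore_le _ hx
    have h3 := (normal_le_normalCore (H := B)).2 h2
    intro y hy
    obtain ⟨x, rfl⟩ := QuotientGroup.mk'_surjective Q y
    rw [mem_bot]
    exact (QuotientGroup.eq_one_iff x).2 (h3 hy)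
  · intro g hg
    obtain ⟨x, rfl⟩ := QuotientGroup.mk'_surjective Q g
    obtain ⟨u, hu, b, hb, e⟩ := hdec x fun h => hg ((hmem x).2 h)
    exact ⟨π u, mem_map_of_mem _ hu, π b, mem_map_of_mem _ hb, by rw [← map_mul, ← map_mul, ← e]⟩
  · rintro _ ⟨u, hu, rfl⟩ h
    have h1 : (π s)⁻¹ * π u * π s = π (s⁻¹ * u * s) := by rw [map_mul, map_mul, map_inv]
    rw [h1] at h
    have h2 := hstab u hu ((hmem _).1 h)
    exact (QuotientGroup.eq_one_iff u).2 ((normal_le_normalCore (H := B)).2 hVB h2)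
  · rintro _ ⟨u, hu, rfl⟩
    exact ⟨τ u, hU' u hu, rfl⟩
  · rintro _ ⟨u, hu, rfl⟩
    exact ⟨τ u, hB' u hu, rfl⟩

open Cfsg.Agent.Schreier.BNSch Cfsg.Agent.Schreier.Tools

/-- The node theorem for a (B, N)-pair. -/
theorem node {K : Type*} [Group K] [Finite K] (P : Cfsg.BNPair K) {U V : Subgroup K} {s : K} (hs : s ∈ P.S)
    (hN : Node P U s V) (hUB : U ≤ P.B) (hUN : ∀ b ∈ P.B, ∃ u ∈ U, u⁻¹ * b ∈ P.N) {p : ℕ} (hp : p.Prime)
    (hU : IsPGroup p U) (τ : MulAut K) (hU' : ∀ u ∈ U, τ u ∈ U) (hB' : ∀ b ∈ P.B, τ b ∈ P.B)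
    (hP' : ∀ g ∈ P.parabolic {s}, τ g ∈ P.parabolic {s}) (hτ : (orderOf τ).Coprime (Nat.card K))
    (hpp : (orderOf τ).Coprime p) (hp1 : (orderOf τ).Coprime (p - 1))
    (hsol : Group.IsSolvable (cM τ (P.parabolic {s}))) : s⁻¹ * τ s ∈ P.B := by
  have hsP : s ∈ P.parabolic {s} := mem_parabolic_self P s
  have hBP : P.B ≤ P.parabolic {s} := B_le_parabolic P _
  have hsB : s ∉ P.B := not_mem_B P hs
  have h1 := node1 (M := ↥(P.parabolic {s})) (B := P.B.subgroupOf _) (U := U.subgroupOf _) (V := V.subgroupOf _)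
    (s := ⟨s, hsP⟩) (fun h => hsB h) (fun x hx => hUB hx) ?_ (fun x hx => hUB (hN.le hx)) ?_
    (fun u hu h => hN.stab u.1 hu h) hp ?_ (resA τ _ hP') (fun u hu => hU' u.1 hu) (fun u hu => hB' u.1 hu)
    (coprime_resA hτ _ hP') (hpp.coprime_dvd_left (orderOf_resA_dvd τ _ hP'))
    (hp1.coprime_dvd_left (orderOf_resA_dvd τ _ hP')) ((solvable_cM_iff τ _ hP').1 hsol)
  · exact h1
  · intro g hg
    obtain ⟨u, hu, b, hb, e⟩ := exists_of_mem_parabolic P hUB hUN hs g.2 hg
    exact ⟨⟨u, hBP (hUB hu)⟩, hu, ⟨b, hBP hb⟩, hb, Subtype.ext e⟩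
  · -- `V` is normal
    have hVs : ∀ v ∈ V, s * v * s⁻¹ ∈ V := by
      have h2 : V.map (MulAut.conj s⁻¹).toMonoidHom ≤ V := by
        rintro _ ⟨v, hv, rfl⟩
        have := hN.conj_s v hv
        simpa only [MulAut.conj_apply, _root_.map_inv, _root_.MulEquiv.toMonoidHom_eq_coe, _root_.MonoidHom.coe_coe, _root_.MulAut.inv_apply, _root_.MulAut.conj_symm_apply] using this
      have h3 := eq_of_le_of_card_ge h2
        (le_of_eq (Nat.card_congr (V.equivMapOfInjective (MulAut.conj s⁻¹).toMonoidHom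
          (MulAut.conj s⁻¹).injective).toEquiv))
      intro v hv
      rw [← h3] at hv
      obtain ⟨w, hw, rfl⟩ := hv
      have h4 : s * (MulAut.conj s⁻¹).toMonoidHom w * s⁻¹ = w := by
        show s * (s⁻¹ * w * s⁻¹⁻¹) * s⁻¹ = w
        group
      rw [h4]
      exact hw
    constructor
    intro v hv g
    show (g : K) * v * (g : K)⁻¹ ∈ V
    have hv' : (v : K) ∈ V := hv
    by_cases hg : (g : K) ∈ P.B
    · exact hN.conj_B g hg v hv'
    · obtain ⟨u, hu, b, hb, e⟩ := exists_of_mem_parabolic P hUB hUN hs g.2 hg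
      have h5 := hN.conj_B u (hUB hu) _ (hVs _ (hN.conj_B b hb _ hv'))
      have h6 : (g : K) * v * (g : K)⁻¹ = u * (s * (b * v * b⁻¹) * s⁻¹) * u⁻¹ := by
        rw [e]; group
      rw [h6]
      exact h5
  · exact hU.comap_of_injective _ (Subgroup.subtype_injective _)

end Cfsg.Agent.H520
end

-- part: H520/Glob
section
/-!
# Coprime automorphisms whose commutators with proper invariant subgroups are solvable (helper520)

* `HH τ` : `τ` is of order prime to `K` and `[M, τ]` is solvable for the proper invariant subgroups `M`;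
* `glob` : if all `τ` with `HH τ` leaving `U` invariant fix the cosets `s B` then `HH τ` implies `τ = 1`;
* `stab_all` : a group of order prime to `6` fixes all nodes of a connected diagram with valencies at most three;
* `rBN` : groups with a (B, N)-pair.
-/

set_option autoImplicit false
set_option linter.unusedSectionVars false

namespace Cfsg.Agent.H520

open Subgroup Cfsg.Agent.Schreier.BNSch Cfsg.Agent.Schreier.Tools Cfsg.Agent.H566
open scoped Pointwise

/-- `τ` is of order prime to `K` and `[M, τ]` is solvable for the proper invariant subgroups `M`. -/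
def HH {K : Type*} [Group K] (τ : MulAut K) : Prop :=
  (orderOf τ).Coprime (Nat.card K) ∧
    ∀ M : Subgroup K, M ≠ ⊤ → (∀ m ∈ M, τ m ∈ M) → Group.IsSolvable (cM τ M)

theorem HH.congr {K L : Type*} [Group K] [Group L] (e : K ≃* L) {τ : MulAut K}
    (h : HH τ) : HH (MulAut.congr e τ) := by
  constructor
  · have h1 : orderOf (MulAut.congr e τ) = orderOf τ := orderOf_injective (MulAut.congr e).toMonoidHom
      (MulAut.congr e).injective τ
    rw [h1, ← Nat.card_congr e.toEquiv]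
    exact h.1
  · intro M hM hinv
    have hap : ∀ x, MulAut.congr e τ (e x) = e (τ x) := by
      intro x
      show e (τ (e.symm (e x))) = e (τ x)
      rw [e.symm_apply_apply]
    have h1 : (cM τ (M.comap e.toMonoidHom)).map e.toMonoidHom = cM (MulAut.congr e τ) M := by
      unfold cM
      rw [MonoidHom.map_closure]
      congr 1
      ext y
      constructor
      · rintro ⟨_, ⟨m, hm, rfl⟩, rfl⟩
        refine ⟨e m, hm, ?_⟩
        show e (m⁻¹ * τ m) = _
        rw [map_mul, map_inv, hap]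
      · rintro ⟨m, hm, rfl⟩
        refine ⟨_, ⟨e.symm m, ?_, rfl⟩, ?_⟩
        · show e (e.symm m) ∈ M
          rw [e.apply_symm_apply]
          exact hm
        · show e ((e.symm m)⁻¹ * τ (e.symm m)) = _
          rw [map_mul, map_inv, ← hap, e.apply_symm_apply]
    have h2 := h.2 (M.comap e.toMonoidHom) (fun h2 => hM (by
      rw [eq_top_iff]
      intro x _
      have h3 : e.symm x ∈ M.comap e.toMonoidHom := by rw [h2]; trivial
      have h4 : e (e.symm x) ∈ M := h3
      rwa [e.apply_symm_apply] at h4)) (fun m hm => by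
        show e (τ m) ∈ M
        rw [← hap]
        exact hinv _ hm)
    rw [← h1]
    exact Group.isSolvable_of_surjective (f := e.toMonoidHom.subgroupMap _) (e.toMonoidHom.subgroupMap_surjective _)

theorem HH.conj {K : Type*} [Group K] {τ : MulAut K} (h : HH τ) (φ : MulAut K) : HH (φ * τ * φ⁻¹) := h.congr φ

variable {K : Type*} [Group K] [Finite K]

/-- The group generated by the automorphisms with `HH` leaving `U` invariant. -/
def DD (U : Subgroup K) : Subgroup (MulAut K) := _root_.Subgroup.closure {τ | HH τ ∧ ∀ u ∈ U, τ u ∈ U}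

theorem DD_inv {U B : Subgroup K} (h : ∀ τ : MulAut K, (∀ u ∈ U, τ u ∈ U) → ∀ b ∈ B, τ b ∈ B) {d : MulAut K}
    (hd : d ∈ DD U) : ∀ b ∈ B, d b ∈ B := by
  unfold DD at hd
  induction hd using closure_induction with
  | mem τ hτ => exact h τ hτ.2
  | one => exact fun b hb => hb
  | mul a b _ _ ha hb => exact fun x hx => ha _ (hb x hx)
  | inv a _ ha => exact fun x hx => symm_mem_of_inv ha hx

theorem DD_fix {U B : Subgroup K} (h : ∀ τ : MulAut K, (∀ u ∈ U, τ u ∈ U) → ∀ b ∈ B, τ b ∈ B) {s : K}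
    (hs : ∀ τ : MulAut K, HH τ → (∀ u ∈ U, τ u ∈ U) → s⁻¹ * τ s ∈ B) {d : MulAut K}
    (hd : d ∈ DD U) : s⁻¹ * d s ∈ B := by
  have hd' := hd
  unfold DD at hd
  induction hd using closure_induction with
  | mem τ hτ => exact hs τ hτ.1 hτ.2
  | one =>
    show s⁻¹ * s ∈ B
    rw [inv_mul_cancel]
    exact one_mem _
  | mul a b ha hb iha ihb =>
    have h1 : s⁻¹ * (a * b) s = (s⁻¹ * a s) * a (s⁻¹ * b s) := by
      rw [MulAut.mul_apply, map_mul, map_inv]; group
    rw [h1]
    exact mul_mem (iha ha) (DD_inv h ha _ (ihb hb))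
  | inv a ha iha =>
    have h1 : a (s⁻¹ * a⁻¹ s) = (s⁻¹ * a s)⁻¹ := by
      rw [map_mul, map_inv, MulAut.apply_inv_self]; group
    have h2 : a (s⁻¹ * a⁻¹ s) ∈ B := by
      rw [h1]
      exact inv_mem (iha ha)
    have h3 := symm_mem_of_inv (DD_inv h ha) h2
    rwa [MulAut.inv_apply_self] at h3

theorem mem_normalizer_DD {U : Subgroup K} {a : MulAut K} (h : ∀ d ∈ DD U, ∀ u ∈ U, (a⁻¹ * d * a) u ∈ U) :
    a ∈ normalizer (DD U : Set (MulAut K)) := by
  have hfin : Finite (MulAut K) := inferInstance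
  have h1 : (DD U).map (MulAut.conj a⁻¹).toMonoidHom ≤ DD U := by
    conv_lhs => unfold DD
    rw [MonoidHom.map_closure, closure_le]
    rintro _ ⟨τ, hτ, rfl⟩
    apply Subgroup.subset_closure
    have h2 : (MulAut.conj a⁻¹).toMonoidHom τ = a⁻¹ * τ * a⁻¹⁻¹ := rfl
    rw [h2]
    refine ⟨hτ.1.conj a⁻¹, ?_⟩
    rw [inv_inv]
    exact h τ (Subgroup.subset_closure hτ)
  have h3 : (DD U).map (MulAut.conj a⁻¹).toMonoidHom = DD U :=
    eq_of_le_of_card_ge h1
      (le_of_eq (Nat.card_congr ((DD U).equivMapOfInjective (MulAut.conj a⁻¹).toMonoidHom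
        (MulAut.conj a⁻¹).injective).toEquiv))
  have h4 : a⁻¹ ∈ normalizer (DD U : Set (MulAut K)) := by
    rw [mem_normalizer_iff]
    intro d
    constructor
    · intro hd
      rw [← h3]
      exact ⟨d, hd, rfl⟩
    · intro hd
      rw [← h3] at hd
      obtain ⟨x, hx, hxd⟩ := hd
      have : x = d := (MulAut.conj a⁻¹).injective hxd
      rwa [← this]
  simpa using inv_mem h4

/-- The group `DD U` is trivial. -/
theorem DD_eq_bot {U B : Subgroup K}
    (hB : normalizer (U : Set K) = B) (hcore : B.normalCore = ⊥)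
    (S : Set K) (hgen : B ⊔ _root_.Subgroup.closure S = ⊤)
    (h : ∀ τ : MulAut K, HH τ → (∀ u ∈ U, τ u ∈ U) → (∀ b ∈ B, τ b ∈ B) → ∀ s ∈ S, s⁻¹ * τ s ∈ B) :
    DD U = ⊥ := by
  set D := DD U with hD
  have hinvB : ∀ τ : MulAut K, (∀ u ∈ U, τ u ∈ U) → ∀ b ∈ B, τ b ∈ B := by
    intro τ hτ b hb
    rw [← hB, mem_normalizer_iff] at hb ⊢
    intro u
    have h1 := hb (τ⁻¹ u)
    have h2 : ∀ x, τ x ∈ U ↔ x ∈ U := fun x =>
      ⟨fun hx => by simpa using symm_mem_of_inv hτ hx, fun hx => hτ x hx⟩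
    rw [← h2, ← h2 (b * _ * _), MulAut.apply_inv_self, map_mul, map_mul, MulAut.apply_inv_self, map_inv] at h1
    exact h1
  have hDU : ∀ d ∈ D, ∀ u ∈ U, d u ∈ U := fun d hd => DD_inv (fun τ hτ => hτ) hd
  have hUB : ∀ b ∈ B, ∀ u ∈ U, b * u * b⁻¹ ∈ U := by
    intro b hb u hu
    rw [← hB] at hb
    exact (mem_normalizer_iff.1 hb u).1 hu
  have hfin : Finite (MulAut K) := inferInstance
  -- `conj K` normalises `D`
  have h1 : B ⊔ _root_.Subgroup.closure S ≤ (normalizer (D : Set (MulAut K))).comap (MulAut.conj : K →* MulAut K) := by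
    refine sup_le ?_ ((closure_le _).2 ?_)
    · intro b hb
      rw [mem_comap]
      apply mem_normalizer_DD
      intro d hd u hu
      have h2 : ((MulAut.conj b)⁻¹ * d * MulAut.conj b) u = b⁻¹ * d (b * u * b⁻¹) * b := by
        rw [← map_inv, MulAut.mul_apply, MulAut.mul_apply, MulAut.conj_apply, MulAut.conj_apply]
        group
      rw [h2]
      have h3 := hUB b⁻¹ (inv_mem hb) _ (hDU d hd _ (hUB b hb u hu))
      simpa only [_root_.map_mul, _root_.map_inv, _root_.inv_inv] using h3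
    · intro s hs
      rw [SetLike.mem_coe, mem_comap]
      apply mem_normalizer_DD
      intro d hd u hu
      have h2 : ((MulAut.conj s)⁻¹ * d * MulAut.conj s) u =
          (s⁻¹ * d s) * d u * (s⁻¹ * d s)⁻¹ := by
        rw [← map_inv, MulAut.mul_apply, MulAut.mul_apply, MulAut.conj_apply, MulAut.conj_apply, map_mul, map_mul,
          map_inv]
        group
      rw [h2]
      exact hUB _ (DD_fix hinvB (fun τ hτ hτU => h τ hτ hτU (hinvB τ hτU) s hs) hd) _ (hDU d hd u hu)
  have h2 : ∀ k : K, MulAut.conj k ∈ normalizer (D : Set (MulAut K)) := by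
    intro k
    have : k ∈ B ⊔ _root_.Subgroup.closure S := by rw [hgen]; trivial
    exact h1 this
  have hX : (D.comap (MulAut.conj : K →* MulAut K)) = ⊥ := by
    have hn : (D.comap (MulAut.conj : K →* MulAut K)).Normal := by
      constructor
      intro x hx k
      rw [mem_comap] at hx ⊢
      rw [map_mul, map_mul, map_inv]
      exact (mem_normalizer_iff.1 (h2 k) _).1 hx
    have hle : D.comap (MulAut.conj : K →* MulAut K) ≤ B := by
      intro x hx
      rw [mem_comap] at hx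
      rw [← hB, mem_normalizer_iff]
      intro u
      constructor
      · intro hu
        exact hDU _ hx u hu
      · intro hu
        have h3 := hDU _ (inv_mem hx) _ hu
        rw [← map_inv, MulAut.conj_apply] at h3
        have h4 : x⁻¹ * (x * u * x⁻¹) * x⁻¹⁻¹ = u := by group
        rwa [h4] at h3
    have := (normal_le_normalCore (H := B)).2 hle
    rwa [hcore, le_bot_iff] at this
  rw [eq_bot_iff]
  intro φ hφ
  rw [mem_bot]
  apply MulEquiv.ext
  intro k
  have h3 : MulAut.conj (φ k * k⁻¹) ∈ D := by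
    have h4 : MulAut.conj (φ k * k⁻¹) = φ * (MulAut.conj k * φ⁻¹ * (MulAut.conj k)⁻¹) := by
      apply MulEquiv.ext
      intro x
      rw [← map_inv MulAut.conj k]
      simp only [MulAut.mul_apply, MulAut.conj_apply, map_mul, map_inv, MulAut.apply_inv_self]
    rw [h4]
    exact mul_mem hφ ((mem_normalizer_iff.1 (h2 k) _).1 (inv_mem hφ))
  have h5 : φ k * k⁻¹ ∈ D.comap (MulAut.conj : K →* MulAut K) := h3
  rw [hX, mem_bot, mul_inv_eq_one] at h5
  exact h5

theorem stab_zpowers {τ : MulAut K} {H : Subgroup K} : Stab (zpowers τ) H ↔ ∀ h ∈ H, τ h ∈ H := by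
  constructor
  · intro h
    exact h τ (mem_zpowers τ)
  · rintro h _ ⟨k, rfl⟩ x hx
    have h1 : zpowers τ ≤ Cfsg.Agent.Schreier.SylowCrit.stab H := by
      rw [zpowers_le]
      exact mem_stab_iff.2 h
    exact mem_stab_iff.1 (h1 ⟨k, rfl⟩) x hx

/-- **Global step.** -/
theorem glob {p : ℕ} [Fact p.Prime] (U : Sylow p K) {B : Subgroup K}
    (hB : normalizer ((U : Subgroup K) : Set K) = B) (hcore : B.normalCore = ⊥)
    (S : Set K) (hgen : B ⊔ _root_.Subgroup.closure S = ⊤)
    (h : ∀ τ : MulAut K, HH τ → (∀ u ∈ (U : Subgroup K), τ u ∈ (U : Subgroup K)) → (∀ b ∈ B, τ b ∈ B) →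
      ∀ s ∈ S, s⁻¹ * τ s ∈ B) {τ : MulAut K} (hτ : HH τ) : τ = 1 := by
  have hD := DD_eq_bot hB hcore S hgen h
  have hc : (Nat.card (zpowers τ)).Coprime (Nat.card K) := by
    rw [Nat.card_zpowers]
    exact hτ.1
  obtain ⟨P, hP⟩ := exists_sylow_stab (A := zpowers τ) hc inferInstance p
  rw [stab_zpowers] at hP
  obtain ⟨k, hk⟩ := MulAction.exists_smul_eq K P U
  set γ := MulAut.conj k with hγ
  have h1 : γ * τ * γ⁻¹ ∈ DD (U : Subgroup K) := by
    apply Subgroup.subset_closure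
    refine ⟨hτ.conj γ, ?_⟩
    intro u hu
    rw [← hk, Sylow.smul_def, Sylow.pointwise_smul_def, mem_pointwise_smul_iff_inv_smul_mem] at hu ⊢
    have h2 := hP _ hu
    have h3 : (MulAut.conj k)⁻¹ • ((γ * τ * γ⁻¹) u) = τ ((MulAut.conj k)⁻¹ • u) := by
      show (MulAut.conj k)⁻¹ (MulAut.conj k (τ ((MulAut.conj k)⁻¹ u))) = τ ((MulAut.conj k)⁻¹ u)
      rw [MulAut.inv_apply_self]
    rw [h3]
    exact h2
  rw [hD, mem_bot] at h1
  have h2 : τ = γ⁻¹ * (γ * τ * γ⁻¹) * γ := by group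
  rw [h2, h1]
  group

/-! ### Nodes -/

/-- An automorphism of order prime to `6` fixes the members of an invariant set of at most four subgroups. -/
theorem fix_of_family {τ : MulAut K} (h6 : (orderOf τ).Coprime 6) (T : Set (Subgroup K)) (hfin : T.Finite)
    (hT : T.ncard ≤ 4) (h : ∀ H ∈ T, H.map τ.toMonoidHom ∈ T) : ∀ H ∈ T, H.map τ.toMonoidHom = H := by
  have hfT : Finite T := hfin.to_subtype
  let f : T → T := fun H => ⟨H.1.map τ.toMonoidHom, h H.1 H.2⟩
  have hf : Function.Injective f := by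
    intro H H' e
    have e' : H.1.map τ.toMonoidHom = H'.1.map τ.toMonoidHom := congrArg Subtype.val e
    exact Subtype.ext (map_injective (f := τ.toMonoidHom) τ.injective e')
  let F : Equiv.Perm T := Equiv.ofBijective f (Finite.injective_iff_bijective.1 hf)
  have hpow : ∀ (n : ℕ) (H : T), ((F ^ n) H : T).1 = H.1.map (τ ^ n : MulAut K).toMonoidHom := by
    intro n
    induction n with
    | zero =>
      intro H
      show H.1 = H.1.map (MonoidHom.id K)
      rw [map_id]
    | succ n ih =>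
      intro H
      rw [pow_succ', Equiv.Perm.mul_apply]
      show ((F ^ n) H).1.map τ.toMonoidHom = _
      rw [ih, map_map, pow_succ']
      rfl
  have h1 : orderOf F ∣ orderOf τ := by
    apply orderOf_dvd_of_pow_eq_one
    apply Equiv.ext
    intro H
    apply Subtype.ext
    rw [hpow, pow_orderOf_eq_one]
    show H.1.map (MonoidHom.id K) = H.1
    rw [map_id]
  have h2 : orderOf F ∣ Nat.factorial 4 := by
    refine (_root_.orderOf_dvd_natCard F).trans ?_
    rw [Nat.card_perm]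
    refine Nat.factorial_dvd_factorial ?_
    rwa [Nat.card_coe_set_eq]
  have h3 : (orderOf τ).Coprime (Nat.factorial 4) := by
    have h4 : Nat.factorial 4 ∣ 6 ^ 3 := by decide
    exact (h6.pow_right 3).coprime_dvd_right h4
  have h4 : orderOf F = 1 := Nat.dvd_one.1 (by
    have := Nat.dvd_gcd h1 h2
    rwa [h3] at this)
  have h5 : F = 1 := orderOf_eq_one_iff.1 h4
  intro H hH
  have h6 : (F ⟨H, hH⟩ : T).1 = H := by rw [h5]; rfl
  exact h6

/-- **Diagram lemma.** -/
theorem perm_of_graph (P : Cfsg.BNPair K) {ι : Type*} [Fintype ι] (s : ι → K) (hs : Set.range s = P.S)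
    (hinj : Function.Injective s) (adj : ι → ι → Prop) [DecidableRel adj] (hirr : ∀ i, ¬ adj i i)
    (hadj : ∀ i j, i ≠ j → (adj i j ↔ s i * s j * (s i)⁻¹ * (s j)⁻¹ ∉ P.B))
    (v : ℕ) (hv : (Finset.univ.filter fun i => (Finset.univ.filter fun j => adj i j).card = v).card ≤ 4)
    (h4 : ∀ i, (Finset.univ.filter fun j => adj i j).card ≤ 4)
    (rk : ι → ℕ) (hrk : ∀ i, (Finset.univ.filter fun j => adj i j).card = v ∨ ∃ j, adj j i ∧ rk j < rk i)
    {τ : MulAut K} (h6 : (orderOf τ).Coprime 6) (hB : ∀ b ∈ P.B, τ b ∈ P.B) :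
    ∀ t ∈ P.S, ∀ g ∈ P.parabolic {t}, τ g ∈ P.parabolic {t} := by
  classical
  have hB' : P.B.map τ.toMonoidHom = P.B := map_eq_of_inv hB
  obtain ⟨σ, hσ1, hσ2⟩ := Cfsg.Agent.Schreier.BNGraph.exists_perm P s hs hinj adj hirr hadj τ hB'
  have hval : ∀ i,
      (Finset.univ.filter fun j => adj (σ i) j).card = (Finset.univ.filter fun j => adj i j).card := by
    intro i
    symm
    apply Finset.card_bij (fun j _ => σ j)
    · intro j hj
      rw [Finset.mem_filter] at hj ⊢
      exact ⟨Finset.mem_univ _, (hσ2 i j).2 hj.2⟩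
    · intro a _ b _ h
      exact σ.injective h
    · intro j hj
      rw [Finset.mem_filter] at hj
      refine ⟨σ.symm j, ?_, by simp⟩
      rw [Finset.mem_filter]
      refine ⟨Finset.mem_univ _, (hσ2 i _).1 ?_⟩
      rw [Equiv.apply_symm_apply]
      exact hj.2
  have hpinj : ∀ i j, P.parabolic {s i} = P.parabolic {s j} → i = j := by
    intro i j h
    have hsS : ∀ i, s i ∈ P.S := fun i => by rw [← hs]; exact ⟨i, rfl⟩
    have h1 := (parabolic_le_iff P (Set.singleton_subset_iff.2 (hsS i)) (Set.singleton_subset_iff.2 (hsS j))).1 h.le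
    exact hinj (Set.singleton_subset_singleton.1 h1)
  have hfam : ∀ T : Finset ι, T.card ≤ 4 → (∀ i ∈ T, σ i ∈ T) → ∀ i ∈ T, σ i = i := by
    intro T hT h i hi
    apply hpinj
    rw [← hσ1]
    refine fix_of_family h6 ((fun j => P.parabolic {s j}) '' (T : Set ι)) (Set.toFinite _) ?_ ?_ _ ⟨i, hi, rfl⟩
    · refine (Set.ncard_image_le (Set.toFinite _)).trans ?_
      rw [Set.ncard_coe_finset]
      exact hT
    · rintro _ ⟨j, hj, rfl⟩
      exact ⟨σ j, h j hj, (hσ1 j).symm⟩
  have hmain : ∀ n i, rk i = n → σ i = i := by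
    intro n
    induction n using Nat.strong_induction_on with
    | _ n ih =>
      intro i hi
      rcases hrk i with h | ⟨j, hj, hji⟩
      · refine hfam _ hv ?_ i (Finset.mem_filter.2 ⟨Finset.mem_univ _, h⟩)
        intro k hk
        rw [Finset.mem_filter] at hk ⊢
        refine ⟨Finset.mem_univ _, ?_⟩
        rw [hval]
        exact hk.2
      · have h2 := ih (rk j) (hi ▸ hji) j rfl
        refine hfam _ (h4 j) ?_ i (Finset.mem_filter.2 ⟨Finset.mem_univ _, hj⟩)
        intro k hk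
        rw [Finset.mem_filter] at hk ⊢
        refine ⟨Finset.mem_univ _, ?_⟩
        have := (hσ2 j k).2 hk.2
        rwa [h2] at this
  intro t ht g hg
  rw [← hs] at ht
  obtain ⟨i, rfl⟩ := ht
  have h1 := hσ1 i
  rw [hmain _ i rfl] at h1
  rw [← h1]
  exact mem_map_of_mem _ hg

/-! ### Groups with a (B, N)-pair -/

theorem parabolic_ne_top (P : Cfsg.BNPair K) {s t : K} (hs : s ∈ P.S) (ht : t ∈ P.S) (hst : s ≠ t) :
    P.parabolic {s} ≠ ⊤ := by
  intro h
  have h1 : P.parabolic {t} ≤ P.parabolic {s} := by rw [h]; exact le_top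
  have h2 := (parabolic_le_iff P (Set.singleton_subset_iff.2 ht) (Set.singleton_subset_iff.2 hs)).1 h1
  exact hst (Set.singleton_subset_singleton.1 h2).symm

/-- **Groups with a (B, N)-pair of rank at least two.** -/
theorem rBN [IsSimpleGroup K] (P : Cfsg.BNPair K) {p : ℕ} [hp : Fact p.Prime] (U : Subgroup K) (hUp : IsPGroup p U)
    (hUB : U ≤ P.B) (hBU : ∀ b ∈ P.B, ∀ u ∈ U, b * u * b⁻¹ ∈ U)
    (hUN : ∀ b ∈ P.B, ∃ u ∈ U, u⁻¹ * b ∈ P.N)
    (m : ℕ) (hm : ¬ p ∣ m) (hH : ∀ h ∈ P.B, h ∈ P.N → h ^ m = 1)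
    (hnode : ∀ s ∈ P.S, ∃ V, Node P U s V) (hne : P.S.Nonempty) (htwo : ∀ s ∈ P.S, ∃ t ∈ P.S, s ≠ t)
    (hp1 : ∀ τ : MulAut K, HH τ → (orderOf τ).Coprime (p - 1))
    (hperm : ∀ τ : MulAut K, HH τ → (∀ b ∈ P.B, τ b ∈ P.B) → ∀ s ∈ P.S, ∀ g ∈ P.parabolic {s},
      τ g ∈ P.parabolic {s}) {τ : MulAut K} (hτ : HH τ) : τ = 1 := by
  have hB : Subgroup.normalizer (U : Set K) = P.B := by
    refine normalizer_eq P _ hUB hBU fun s hs => ?_
    obtain ⟨V, hV⟩ := hnode s hs
    obtain ⟨u, hu, huV⟩ := hV.ne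
    exact ⟨u, hu, fun h => huV (hV.stab u hu h)⟩
  have hcop : ¬ p ∣ U.relIndex (Subgroup.normalizer (U : Set K)) := by
    rw [hB]
    intro h
    have hn : (U.subgroupOf P.B).Normal := by
      constructor
      intro u hu b
      rw [Subgroup.mem_subgroupOf] at hu ⊢
      exact hBU b b.2 u hu
    have h1 : p ∣ Nat.card (P.B ⧸ U.subgroupOf P.B) := h
    obtain ⟨x, hx⟩ := exists_prime_orderOf_dvd_card' p h1
    induction x using QuotientGroup.induction_on with
    | H b =>
      obtain ⟨u, hu, hun⟩ := hUN b b.2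
      have h2 : u⁻¹ * (b : K) ∈ P.B := mul_mem (inv_mem (hUB hu)) b.2
      have h3 : (QuotientGroup.mk b : P.B ⧸ U.subgroupOf P.B) = QuotientGroup.mk (⟨u⁻¹ * b, h2⟩ : P.B) := by
        rw [QuotientGroup.eq, Subgroup.mem_subgroupOf]
        show (b : K)⁻¹ * (u⁻¹ * b) ∈ U
        have h4 := hBU (b : K)⁻¹ (inv_mem b.2) _ (inv_mem hu)
        rw [inv_inv] at h4
        rwa [← mul_assoc]
      have h4 : (QuotientGroup.mk b : P.B ⧸ U.subgroupOf P.B) ^ m = 1 := by
        rw [h3, ← QuotientGroup.mk_pow]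
        have h5 : (⟨u⁻¹ * b, h2⟩ : P.B) ^ m = 1 := by
          apply Subtype.ext
          exact hH _ h2 hun
        rw [h5]
        rfl
      exact hm (hx ▸ orderOf_dvd_of_pow_eq_one h4)
  obtain ⟨S, rfl⟩ := Schreier.BNUse.exists_sylow U hUp hcop
  have hpK : p ∣ Nat.card K := by
    obtain ⟨s, hs⟩ := hne
    obtain ⟨V, hV⟩ := hnode s hs
    obtain ⟨u, hu, huV⟩ := hV.ne
    obtain ⟨e, he⟩ := IsPGroup.iff_card.1 hUp
    have h1 : e ≠ 0 := by
      rintro rfl
      rw [pow_zero] at he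
      have h2 : (S : Subgroup K) = ⊥ := card_eq_one.1 he
      rw [h2, mem_bot] at hu
      exact huV (by rw [hu]; exact one_mem _)
    exact ((dvd_pow_self p h1).trans (dvd_of_eq he.symm)).trans (card_subgroup_dvd_card _)
  refine glob S hB (Schreier.BNUse.core_eq_bot P hne) P.S ?_ ?_ hτ
  · rw [eq_top_iff, ← P.sup_eq_top]
    refine sup_le le_sup_left ?_
    rw [← P.closure_sup]
    exact sup_le le_sup_right (inf_le_left.trans le_sup_left)
  · intro τ hτ hτU hτB s hs
    obtain ⟨V, hV⟩ := hnode s hs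
    obtain ⟨t, ht, hst⟩ := htwo s hs
    have hP' := hperm τ hτ hτB s hs
    exact node P hs hV hUB hUN hp.out hUp τ hτU hτB hP' hτ.1 (hτ.1.coprime_dvd_right hpK) (hp1 τ hτ)
      (hτ.2 _ (parabolic_ne_top P hs ht hst) hP')

end Cfsg.Agent.H520
end
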