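import Mathlib
import Cfsg.Agent.H520.Glob
import Cfsg.Agent.GTwoRows.Base
import Cfsg.Agent.LieClassical.FieldTransfer
import Cfsg.Agent.CpAutRee.Ree
import Cfsg.Agent.S0222
import Cfsg.Agent.GH.EFrameAct
import Cfsg.Agent.Prune
set_option linter.all false
prune_inst 0x7f00000000000000000000000000000000000000000000000000000000000000000000000000000000000000000000000000000000000000000000000000000000000000000000000000000000000000003fffffffffffffffffffffffffffbeffbdffffffff
open scoped Cfsg.Agent.FastGrp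

-- part: H520/Cen
section
/-!
# Coprime automorphisms of quasisimple groups with a centre of order at most two (helper520)
-/

set_option autoImplicit false

namespace Cfsg.Agent.H520

open Subgroup

/-- a group of order at most two has no automorphism -/
theorem fix_center {G : Type*} [Group G] [Finite G] (hz : Nat.card (center G) ≤ 2) (τ : MulAut G) {z : G}
    (h : z ∈ center G) : τ z = z := by
  by_cases h1 : z = 1
  · rw [h1, map_one]
  · have h2 : τ z ≠ 1 := fun h => h1 (τ.injective (h.trans (map_one τ).symm))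
    have h3 : τ z ∈ center G := by
      rw [mem_center_iff]
      intro g
      have h4 := mem_center_iff.1 h (τ.symm g)
      have h5 := congrArg τ h4
      rw [map_mul, map_mul, MulEquiv.apply_symm_apply] at h5
      exact h5
    by_contra h4
    classical
    have h5 : ({⟨1, one_mem _⟩, ⟨z, h⟩, ⟨τ z, h3⟩} : Finset (center G)).card ≤ Nat.card (center G) := by
      have := Fintype.ofFinite (center G)
      rw [Nat.card_eq_fintype_card]
      exact Finset.card_le_univ _
    rw [Finset.card_eq_three.2 ⟨⟨1, one_mem _⟩, ⟨z, h⟩, ⟨τ z, h3⟩, fun h => h1 (congrArg Subtype.val h).symm,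
      fun h => h2 (congrArg Subtype.val h).symm, fun h => h4 (congrArg Subtype.val h).symm, rfl⟩] at h5
    omega

/-- **A coprime automorphism of a quasisimple group with a centre of order at most two and `[G, τ]` solvable is trivial.** -/
theorem triv_of_quasi {G : Type*} [Group G] [Finite G] (hs : IsSimpleGroup (G ⧸ center G))
    (hns : ¬ Group.IsSolvable (G ⧸ center G)) (hz : Nat.card (center G) ≤ 2) {τ : MulAut G}
    (hco : (orderOf τ).Coprime (Nat.card G)) (h : Group.IsSolvable (cG τ)) : τ = 1 := by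
  have hn : (cG τ).Normal := cG_normal τ
  have hn1 : ((cG τ).map (QuotientGroup.mk' (center G))).Normal := hn.map _ (QuotientGroup.mk'_surjective _)
  have h1 : cG τ ≤ center G := by
    rcases hn1.eq_bot_or_eq_top with h1 | h1
    · rw [Subgroup.map_eq_bot_iff, QuotientGroup.ker_mk'] at h1
      exact h1
    · exfalso
      apply hns
      have h2 : Group.IsSolvable ((cG τ).map (QuotientGroup.mk' (center G))) :=
        Group.isSolvable_of_surjective (f := (QuotientGroup.mk' (center G)).subgroupMap _)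
          ((QuotientGroup.mk' (center G)).subgroupMap_surjective _)
      rw [h1] at h2
      exact Group.isSolvable_of_surjective (f := (topEquiv (G := G ⧸ center G)).toMonoidHom) topEquiv.surjective
  ext g
  exact eq_of_fixed hco (fix_center hz τ (h1 (mem_cG τ g)))

/-- quasisimple with a centre of order at most two -/
def QS (G : Type*) [Group G] : Prop :=
  IsSimpleGroup (G ⧸ center G) ∧ ¬ Group.IsSolvable (G ⧸ center G) ∧ Nat.card (center G) ≤ 2

theorem QS.congr {G H : Type*} [Group G] [Group H] (e : G ≃* H) (h : QS G) : QS H := by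
  have e1 := LieClassical.FieldTransfer.centralQuotientCongr e
  refine ⟨?_, fun h2 => h.2.1 ?_, ?_⟩
  · have h1 := h.1
    exact e1.isSimpleGroup_congr.1 h1
  · exact Group.isSolvable_of_surjective (f := e1.symm.toMonoidHom) e1.symm.surjective
  · rw [← Nat.card_congr (centerCongr e).toEquiv]
    exact h.2.2

theorem QS.of_surj {G S : Type*} [Group G] [Group S] [IsSimpleGroup S] (f : G →* S) (hf : Function.Surjective f)
    (hk : f.ker = center G) (hns : ¬ Group.IsSolvable S) (hz : Nat.card (center G) ≤ 2) : QS G := by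
  have e : (G ⧸ center G) ≃* S :=
    (QuotientGroup.quotientMulEquivOfEq hk.symm).trans (QuotientGroup.quotientKerEquivOfSurjective f hf)
  refine ⟨?_, fun h2 => hns ?_, hz⟩
  · exact e.isSimpleGroup_congr.2 inferInstance
  · exact Group.isSolvable_of_surjective (f := e.toMonoidHom) e.surjective

theorem not_solv {S : Type*} [Group S] [IsSimpleGroup S] (hna : ¬ IsMulCommutative S) : ¬ Group.IsSolvable S := by
  intro hs
  apply hna
  exact ⟨⟨fun a b => (IsSimpleGroup.comm_iff_isSolvable.2 hs) a b⟩⟩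

/-- `SL₂(F)` -/
theorem qs_sl {F : Type} [Field F] [Fintype F] (h3 : 3 < Fintype.card F) :
    QS (Matrix.SpecialLinearGroup (Fin 2) F) := by
  refine ⟨TwoFusion.SLTwoFacts.isSimpleGroup_psl h3, ?_, ?_⟩
  · have : IsSimpleGroup (Matrix.ProjectiveSpecialLinearGroup (Fin 2) F) := TwoFusion.SLTwoFacts.isSimpleGroup_psl h3
    exact not_solv (GTwoRows.not_comm_psl h3)
  · rw [Nat.card_congr (Matrix.SpecialLinearGroup.center_equiv_rootsOfUnity (n := Fin 2) (R := F)).toEquiv]
    have hne : NeZero (max (Fintype.card (Fin 2)) 1) := ⟨by simp⟩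
    exact (card_rootsOfUnity F _)

/-- `2 × S` -/
theorem qs_prod {A S : Type*} [CommGroup A] [Group S] [IsSimpleGroup S] (hna : ¬ IsMulCommutative S)
    (hA : Nat.card A ≤ 2) : QS (A × S) := by
  have hc : center S = ⊥ := by
    rcases (inferInstance : (center S).Normal).eq_bot_or_eq_top with h | h
    · exact h
    · exact absurd (center_eq_top_iff.1 h) hna
  have hcc : center (A × S) = prod ⊤ ⊥ := by
    rw [Subgroup.center_prod, hc, CommGroup.center_eq_top]
  refine QS.of_surj (MonoidHom.snd A S) Prod.snd_surjective ?_ (not_solv hna) ?_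
  · rw [hcc]
    ext ⟨a, s⟩
    simp [mem_prod]
  · rw [hcc]
    have e : (prod (⊤ : Subgroup A) (⊥ : Subgroup S)) ≃* _ := prodEquiv _ _
    rw [Nat.card_congr e.toEquiv, Nat.card_prod]
    simpa using hA

/-- **Fixed subgroups.** -/
theorem HH.fix {K : Type*} [Group K] [Finite K] {τ : MulAut K} (h : HH τ) {M : Subgroup K} (hM : M ≠ ⊤)
    (hinv : ∀ m ∈ M, τ m ∈ M) (hq : QS M) : ∀ m ∈ M, τ m = m := by
  have h1 := (solvable_cM_iff τ M hinv).1 (h.2 M hM hinv)
  have h2 := triv_of_quasi hq.1 hq.2.1 hq.2.2 (coprime_resA h.1 M hinv) h1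
  intro m hm
  have h3 := congrArg (fun x : MulAut M => ((x ⟨m, hm⟩ : M) : K)) h2
  exact h3

end Cfsg.Agent.H520
end

-- part: H520/ReeT
section
/-!
# Coprime automorphisms of the Ree groups `²G₂(q)` (helper520)

`triv_Ree` : a coprime automorphism `τ` of `²G₂(q)` with `[M, τ]` solvable for all proper invariant `M` is trivial.
-/

set_option autoImplicit false

namespace Cfsg.Agent.H520

open Cfsg Subgroup Cfsg.Agent.H566 Cfsg.Agent.Walter Cfsg.Agent.Walter.Types Cfsg.Agent.CpAutRee.Ree

/-- An automorphism of order prime to `168` of an elementary abelian group of order `8` is trivial. -/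
theorem aut_eight {V : Type*} [Group V] (hsq : ∀ v : V, v * v = 1) (hc : Nat.card V = 8) {β : MulAut V}
    (h : (orderOf β).Coprime 168) : β = 1 := by
  let _ : CommGroup V := { (inferInstance : Group V) with
    mul_comm := by
      intro a b
      have h1 := hsq (a * b)
      have h2 : ∀ c : V, c⁻¹ = c := fun c => (eq_inv_of_mul_eq_one_left (hsq c)).symm
      have h3 := eq_inv_of_mul_eq_one_left h1
      rw [mul_inv_rev, h2, h2] at h3
      exact h3 }
  have h1 := GH.EFrameAct.card_mulAut_eight (V := V) (fun x => by rw [sq]; exact hsq x) hc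
  have h2 : orderOf β ∣ 168 := by
    rw [← h1]
    exact orderOf_dvd_natCard β
  have h3 := Nat.dvd_gcd (dvd_refl (orderOf β)) h2
  rw [h] at h3
  exact orderOf_eq_one_iff.1 (Nat.dvd_one.1 h3)

/-- **The Ree groups.** -/
theorem triv_Ree {K : Type} [Field K] [Fintype K] {m : ℕ} (hm : 1 ≤ m) (hK : Fintype.card K = 3 ^ (2 * m + 1))
    {τ : MulAut ↥(Cfsg.Lie.twistedG2 K (3 ^ m))} (h : HH τ) : τ = 1 := by
  classical
  have h2 : Fact (Nat.Prime 2) := ⟨Nat.prime_two⟩
  obtain ⟨hsimp, hc⟩ := Cfsg.Agent.S1073.result hm hK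
  have hna : ∃ a b : ↥(Cfsg.Lie.twistedG2 K (3 ^ m)), a * b ≠ b * a := by
    by_contra hcon
    push Not at hcon
    exact hc ⟨⟨hcon⟩⟩
  obtain ⟨a, haH, ha1, ha2⟩ := Cfsg.Agent.S1157.exists_involution hK
  obtain ⟨⟨e⟩, hS⟩ := Cfsg.Agent.S1152.result hK a haH ha1 ha2
  have hao : orderOf a = 2 := orderOf_eq_prime (by rw [sq, ha2]) ha1
  have hq8 := pow_mod_eight m
  have hq27 : 27 ≤ 3 ^ (2 * m + 1) := by
    calc 27 = 3 ^ 3 := by norm_num
      _ ≤ 3 ^ (2 * m + 1) := Nat.pow_le_pow_right (by norm_num) (by omega)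
  have hJ : IsJR ↥(Cfsg.Lie.twistedG2 K (3 ^ m)) := by
    refine ⟨⟨default, hS default⟩, K, inferInstance, inferInstance, Or.inl (by rw [hK, hq8]), by rw [hK]; omega, ?_⟩
    intro t ht
    obtain ⟨g, rfl⟩ := exists_conj hna hS hao ht
    obtain ⟨f⟩ := cent_conj a g
    exact ⟨f.symm.trans e⟩
  have hB : AutFacts.Bender ↥(Cfsg.Lie.twistedG2 K (3 ^ m)) := fun M hM => Cfsg.Agent.S0222.result hna M hM
  have hco : (Nat.card (zpowers τ)).Coprime (Nat.card ↥(Cfsg.Lie.twistedG2 K (3 ^ m))) := by
    rw [Nat.card_zpowers]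
    exact h.1
  obtain ⟨P, hP⟩ := exists_sylow_stab (A := zpowers τ) hco inferInstance 2
  rw [stab_zpowers] at hP
  obtain ⟨f1, f2, f3⟩ := PSLFacts.IsJR.facts hJ P
  have h168 : 168 ∣ Nat.card ↥(Cfsg.Lie.twistedG2 K (3 ^ m)) := by
    have h3 := (Cfsg.Agent.S1157.result hm hK P).2
    exact ⟨_, (by rw [← h3]; exact (card_mul_index _).symm)⟩
  have h6 : (orderOf τ).Coprime 168 := Nat.Coprime.coprime_dvd_right h168 h.1
  have hPfix : ∀ s ∈ (P : Subgroup ↥(Cfsg.Lie.twistedG2 K (3 ^ m))), τ s = s := by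
    have h3 : resA τ (P : Subgroup ↥(Cfsg.Lie.twistedG2 K (3 ^ m))) hP = 1 := by
      refine aut_eight (V := (P : Subgroup ↥(Cfsg.Lie.twistedG2 K (3 ^ m)))) (fun v => Subtype.ext (f1 v v.2)) f2 ?_
      exact Nat.Coprime.coprime_dvd_left (orderOf_resA_dvd τ _ hP) h6
    intro s hs
    exact congrArg (fun x : MulAut (P : Subgroup ↥(Cfsg.Lie.twistedG2 K (3 ^ m))) => ((x ⟨s, hs⟩ : _) :
      ↥(Cfsg.Lie.twistedG2 K (3 ^ m)))) h3
  obtain ⟨s, hs, hs1⟩ : ∃ s ∈ (P : Subgroup ↥(Cfsg.Lie.twistedG2 K (3 ^ m))), s ≠ 1 := by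
    by_contra hcon
    push Not at hcon
    have h3 : (P : Subgroup ↥(Cfsg.Lie.twistedG2 K (3 ^ m))) = ⊥ := by
      rw [eq_bot_iff]
      exact fun x hx => mem_bot.2 (hcon x hx)
    rw [h3, card_bot] at f2
    omega
  have hso : orderOf s = 2 := orderOf_eq_prime (by rw [sq, f1 s hs]) hs1
  obtain ⟨g, hg⟩ := exists_conj hna hS hao hso
  obtain ⟨f⟩ := cent_conj a g
  rw [hg] at f
  have hPs : IsSimpleGroup (Matrix.ProjectiveSpecialLinearGroup (Fin 2) K) :=
    TwoFusion.SLTwoFacts.isSimpleGroup_psl (by rw [hK]; omega)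
  have hqs : QS (centralizer ({s} : Set ↥(Cfsg.Lie.twistedG2 K (3 ^ m)))) :=
    (qs_prod (A := Multiplicative (ZMod 2)) (S := Matrix.ProjectiveSpecialLinearGroup (Fin 2) K)
      (GTwoRows.not_comm_psl (by rw [hK]; omega)) (by simp)).congr (e.symm.trans f)
  have hne : centralizer ({s} : Set ↥(Cfsg.Lie.twistedG2 K (3 ^ m))) ≠ ⊤ := by
    intro h3
    have h4 : s ∈ center ↥(Cfsg.Lie.twistedG2 K (3 ^ m)) := by
      rw [mem_center_iff]
      intro x
      exact mem_centralizer_singleton_iff.1 (by rw [h3]; trivial)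
    rcases (inferInstance : (center ↥(Cfsg.Lie.twistedG2 K (3 ^ m))).Normal).eq_bot_or_eq_top with h5 | h5
    · rw [h5] at h4
      exact hs1 h4
    · obtain ⟨x, y, hxy⟩ := hna
      exact hxy (mem_center_iff.1 (by rw [h5]; trivial) x)
  have hfix := h.fix hne (fun x hx => by
    rw [mem_centralizer_singleton_iff] at hx ⊢
    have h3 := congrArg τ hx
    rw [map_mul, map_mul, hPfix s hs] at h3
    exact h3) hqs
  have hodd : Odd (orderOf τ) := by
    rw [← Nat.coprime_two_right]
    exact Nat.Coprime.coprime_dvd_right ⟨84, by norm_num⟩ h6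
  exact AutFacts.aut_eq_one hB hna P f1 (by rw [f2]; norm_num) f3 hs hs1 τ hodd hfix

end Cfsg.Agent.H520
end
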