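import Mathlib
import Cfsg.Agent.H520.Glob
import Cfsg.Agent.H686.CgPsp
import Cfsg.Agent.H102.SzSol
import Cfsg.Agent.OddCyclic.ClaimC.SzIso
import Cfsg.Agent.H70.SzOut
import Cfsg.Agent.H254.CopCard_m3
import Cfsg.Agent.S0205
import Cfsg.Agent.FastGrp
import Cfsg.Agent.Prune
set_option linter.all false
prune_inst 0x7fffb8fbfff8bfffdfff7fffaffcdffc3995dfffffdffd4bffe069ff8fdf030a4dc7abad8de012ff1fd7629c10b87853fffffeffea6ffc7ffffdfff45ffbee0ff5f7bd0871968c340fbc0fff63f0778e7f3fffffffffffffffffffffffffffbeffffffffffff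
open scoped Cfsg.Agent.FastGrp

-- part: H520/LemD
section
/-!
# Pairs of elements of `SL₂(F)` of order prime to `6` generating a non-solvable group (helper520)

`lemD` : two elements of `SL₂(F)` of order prime to `6` which do not commute and have no common eigenvector generate a
non-solvable group.
-/

set_option autoImplicit false
set_option linter.unusedSectionVars false

namespace Cfsg.Agent.H520

open Subgroup Matrix

section Mat

variable {F : Type*} [Field F]

/-- scalar matrices -/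
def Sc (M : Matrix (Fin 2) (Fin 2) F) : Prop := ∃ x : F, M = x • (1 : Matrix (Fin 2) (Fin 2) F)

theorem ext2 {M N : Matrix (Fin 2) (Fin 2) F} (h00 : M 0 0 = N 0 0) (h01 : M 0 1 = N 0 1) (h10 : M 1 0 = N 1 0)
    (h11 : M 1 1 = N 1 1) : M = N := by
  ext i j
  fin_cases i <;> fin_cases j
  · exact h00
  · exact h01
  · exact h10
  · exact h11

theorem exists_lin {M N : Matrix (Fin 2) (Fin 2) F} (hN : ¬ Sc N) (h : M * N = N * M) :
    ∃ x y : F, M = x • (1 : Matrix (Fin 2) (Fin 2) F) + y • N := by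
  have e00 := congrFun (congrFun h 0) 0
  have e01 := congrFun (congrFun h 0) 1
  have e10 := congrFun (congrFun h 1) 0
  rw [Matrix.mul_apply, Matrix.mul_apply, Fin.sum_univ_two, Fin.sum_univ_two] at e00 e01 e10
  by_cases h1 : N 0 1 = 0
  · by_cases h2 : N 1 0 = 0
    · have h3 : N 0 0 - N 1 1 ≠ 0 := by
        intro h3
        apply hN
        refine ⟨N 0 0, ext2 ?_ ?_ ?_ ?_⟩
        · simp
        · simp [h1]
        · simp [h2]
        · simp [sub_eq_zero.1 h3]
      have h4 : M 0 1 = 0 := by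
        have : M 0 1 * (N 0 0 - N 1 1) = 0 := by rw [h1] at e01; linear_combination -e01
        exact (mul_eq_zero.1 this).resolve_right h3
      have h5 : M 1 0 = 0 := by
        have : M 1 0 * (N 0 0 - N 1 1) = 0 := by rw [h2] at e10; linear_combination e10
        exact (mul_eq_zero.1 this).resolve_right h3
      refine ⟨M 0 0 - (M 0 0 - M 1 1) / (N 0 0 - N 1 1) * N 0 0, (M 0 0 - M 1 1) / (N 0 0 - N 1 1), ext2 ?_ ?_ ?_ ?_⟩
      · simp
      · simp [h1, h4]
      · simp [h2, h5]
      · simp only [Matrix.add_apply, Matrix.smul_apply, Matrix.one_apply_eq, smul_eq_mul, mul_one]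
        field_simp
        ring
    · refine ⟨M 0 0 - M 1 0 / N 1 0 * N 0 0, M 1 0 / N 1 0, ext2 ?_ ?_ ?_ ?_⟩
      · simp
      · simp only [Matrix.add_apply, Matrix.smul_apply, smul_eq_mul]
        rw [Matrix.one_apply_ne (by decide), mul_zero, zero_add]
        field_simp
        linear_combination e00
      · simp only [Matrix.add_apply, Matrix.smul_apply, smul_eq_mul]
        rw [Matrix.one_apply_ne (by decide), mul_zero, zero_add]
        field_simp
      · simp only [Matrix.add_apply, Matrix.smul_apply, Matrix.one_apply_eq, smul_eq_mul, mul_one]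
        field_simp
        linear_combination e10
  · refine ⟨M 0 0 - M 0 1 / N 0 1 * N 0 0, M 0 1 / N 0 1, ext2 ?_ ?_ ?_ ?_⟩
    · simp
    · simp only [Matrix.add_apply, Matrix.smul_apply, smul_eq_mul]
      rw [Matrix.one_apply_ne (by decide), mul_zero, zero_add]
      field_simp
    · simp only [Matrix.add_apply, Matrix.smul_apply, smul_eq_mul]
      rw [Matrix.one_apply_ne (by decide), mul_zero, zero_add]
      field_simp
      linear_combination -e00
    · simp only [Matrix.add_apply, Matrix.smul_apply, Matrix.one_apply_eq, smul_eq_mul, mul_one]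
      field_simp
      linear_combination -e01

/-- two conjugate semisimple matrices which commute are equal or inverse -/
theorem eq_or_adj {M N : Matrix (Fin 2) (Fin 2) F} (hN : ¬ Sc N) (h : M * N = N * M) (htr : M.trace = N.trace)
    (hM1 : M.det = 1) (hN1 : N.det = 1) (ht : N.trace ^ 2 ≠ 4) :
    M = N ∨ M = N.trace • (1 : Matrix (Fin 2) (Fin 2) F) - N := by
  obtain ⟨x, y, hxy⟩ := exists_lin hN h
  have e00 := congrFun (congrFun hxy 0) 0
  have e01 := congrFun (congrFun hxy 0) 1
  have e10 := congrFun (congrFun hxy 1) 0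
  have e11 := congrFun (congrFun hxy 1) 1
  simp only [Matrix.add_apply, Matrix.smul_apply, Matrix.one_apply_eq, smul_eq_mul, mul_one] at e00 e11
  simp only [Matrix.add_apply, Matrix.smul_apply, smul_eq_mul] at e01 e10
  rw [Matrix.one_apply_ne (by decide), mul_zero, zero_add] at e01 e10
  rw [Matrix.trace_fin_two, Matrix.trace_fin_two] at htr
  rw [Matrix.trace_fin_two] at ht
  rw [Matrix.det_fin_two] at hM1 hN1
  rw [Matrix.trace_fin_two]
  set a := N 0 0
  set b := N 0 1
  set c := N 1 0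
  set d := N 1 1
  rw [e00, e01, e10, e11] at hM1
  rw [e00, e11] at htr
  have h1 : 2 * x + y * (a + d) = a + d := by linear_combination htr
  have h2 : x ^ 2 + x * y * (a + d) + y ^ 2 = 1 := by linear_combination hM1 - y ^ 2 * hN1
  have h3 : (4 - (a + d) ^ 2) * ((y - 1) * (y + 1)) = 0 := by
    linear_combination 4 * h2 - (2 * x + y * (a + d) + (a + d)) * h1
  have h4 : (y - 1) * (y + 1) = 0 := by
    rcases mul_eq_zero.1 h3 with h | h
    · exact absurd (sub_eq_zero.1 h).symm ht
    · exact h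
  rcases mul_eq_zero.1 h4 with h5 | h5
  · have hy : y = 1 := sub_eq_zero.1 h5
    rw [hy] at h1 h2 e00 e01 e10 e11
    have h6 : x * (x + (a + d)) = 0 := by linear_combination h2
    have h7 : 2 * x = 0 := by linear_combination h1
    rcases mul_eq_zero.1 h6 with h | h
    · left
      refine ext2 ?_ ?_ ?_ ?_
      · rw [e00, h]; ring
      · rw [e01]; ring
      · rw [e10]; ring
      · rw [e11, h]; ring
    · by_cases h20 : (2 : F) = 0
      · right
        refine ext2 ?_ ?_ ?_ ?_
        · simp only [Matrix.sub_apply, Matrix.smul_apply, Matrix.one_apply_eq, smul_eq_mul, mul_one]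
          rw [e00]
          linear_combination h - d * h20
        · simp only [Matrix.sub_apply, Matrix.smul_apply, smul_eq_mul]
          rw [Matrix.one_apply_ne (by decide), mul_zero, zero_sub, e01]
          linear_combination b * h20
        · simp only [Matrix.sub_apply, Matrix.smul_apply, smul_eq_mul]
          rw [Matrix.one_apply_ne (by decide), mul_zero, zero_sub, e10]
          linear_combination c * h20
        · simp only [Matrix.sub_apply, Matrix.smul_apply, Matrix.one_apply_eq, smul_eq_mul, mul_one]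
          rw [e11]
          linear_combination h - a * h20
      · left
        have hx : x = 0 := (mul_eq_zero.1 h7).resolve_left h20
        refine ext2 ?_ ?_ ?_ ?_
        · rw [e00, hx]; ring
        · rw [e01]; ring
        · rw [e10]; ring
        · rw [e11, hx]; ring
  · have hy : y = -1 := eq_neg_of_add_eq_zero_left h5
    rw [hy] at h1 h2 e00 e01 e10 e11
    have h6 : x * (x - (a + d)) = 0 := by linear_combination h2
    have h7 : 2 * (x - (a + d)) = 0 := by linear_combination h1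
    have h8 : x = a + d ∨ (x = 0 ∧ (2 : F) = 0) := by
      rcases mul_eq_zero.1 h6 with h | h
      · by_cases h20 : (2 : F) = 0
        · exact Or.inr ⟨h, h20⟩
        · exact Or.inl (sub_eq_zero.1 ((mul_eq_zero.1 h7).resolve_left h20))
      · exact Or.inl (sub_eq_zero.1 h)
    rcases h8 with h8 | ⟨h8, h20⟩
    swap
    · left
      refine ext2 ?_ ?_ ?_ ?_
      · rw [e00, h8]
        linear_combination -a * h20
      · rw [e01]
        linear_combination -b * h20
      · rw [e10]
        linear_combination -c * h20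
      · rw [e11, h8]
        linear_combination -d * h20
    right
    refine ext2 ?_ ?_ ?_ ?_
    · simp only [Matrix.sub_apply, Matrix.smul_apply, Matrix.one_apply_eq, smul_eq_mul, mul_one]
      rw [e00, h8]; ring
    · simp only [Matrix.sub_apply, Matrix.smul_apply, smul_eq_mul]
      rw [Matrix.one_apply_ne (by decide), mul_zero, zero_sub, e01]
      ring
    · simp only [Matrix.sub_apply, Matrix.smul_apply, smul_eq_mul]
      rw [Matrix.one_apply_ne (by decide), mul_zero, zero_sub, e10]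
      ring
    · simp only [Matrix.sub_apply, Matrix.smul_apply, Matrix.one_apply_eq, smul_eq_mul, mul_one]
      rw [e11, h8]; ring

/-- Cayley-Hamilton -/
theorem sq_eq (N : Matrix (Fin 2) (Fin 2) F) (hN1 : N.det = 1) :
    N * N = N.trace • N - (1 : Matrix (Fin 2) (Fin 2) F) := by
  rw [Matrix.det_fin_two] at hN1
  rw [Matrix.trace_fin_two]
  refine ext2 ?_ ?_ ?_ ?_
  · rw [Matrix.mul_apply, Fin.sum_univ_two]
    simp only [Matrix.sub_apply, Matrix.smul_apply, Matrix.one_apply_eq, smul_eq_mul]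
    linear_combination -hN1
  · rw [Matrix.mul_apply, Fin.sum_univ_two]
    simp only [Matrix.sub_apply, Matrix.smul_apply, smul_eq_mul]
    rw [Matrix.one_apply_ne (by decide)]
    ring
  · rw [Matrix.mul_apply, Fin.sum_univ_two]
    simp only [Matrix.sub_apply, Matrix.smul_apply, smul_eq_mul]
    rw [Matrix.one_apply_ne (by decide)]
    ring
  · rw [Matrix.mul_apply, Fin.sum_univ_two]
    simp only [Matrix.sub_apply, Matrix.smul_apply, Matrix.one_apply_eq, smul_eq_mul]
    linear_combination -hN1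

/-- the unipotent case -/
theorem exists_eps {N : Matrix (Fin 2) (Fin 2) F} (hN : ¬ Sc N) (hN1 : N.det = 1) (ht : N.trace ^ 2 = 4) :
    ∃ ε : F, (N - ε • (1 : Matrix (Fin 2) (Fin 2) F)) * (N - ε • (1 : Matrix (Fin 2) (Fin 2) F)) = 0 ∧
      ∀ M : Matrix (Fin 2) (Fin 2) F, M * N = N * M → M.trace = N.trace → M.det = 1 →
        ∃ y : F, M - ε • (1 : Matrix (Fin 2) (Fin 2) F) = y • (N - ε • (1 : Matrix (Fin 2) (Fin 2) F)) := by
  obtain ⟨ε, he, he2⟩ : ∃ ε : F, ε * ε = 1 ∧ N.trace = 2 * ε := by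
    by_cases h20 : (2 : F) = 0
    · refine ⟨1, one_mul 1, ?_⟩
      have h1 : N.trace ^ 2 = 0 := by rw [ht]; linear_combination 2 * h20
      rw [pow_eq_zero_iff two_ne_zero] at h1
      rw [h1, h20, zero_mul]
    · refine ⟨N.trace / 2, ?_, ?_⟩
      · field_simp
        linear_combination ht
      · field_simp
  refine ⟨ε, ?_, ?_⟩
  · have h1 := sq_eq N hN1
    rw [sub_mul, mul_sub, mul_sub, h1, he2]
    simp only [Matrix.smul_mul, Matrix.mul_smul, Matrix.one_mul, Matrix.mul_one, smul_smul, he, one_smul]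
    rw [two_mul, add_smul]
    abel
  · intro M h htr hM1
    obtain ⟨x, y, hxy⟩ := exists_lin hN h
    refine ⟨y, ?_⟩
    have e00 := congrFun (congrFun hxy 0) 0
    have e01 := congrFun (congrFun hxy 0) 1
    have e10 := congrFun (congrFun hxy 1) 0
    have e11 := congrFun (congrFun hxy 1) 1
    simp only [Matrix.add_apply, Matrix.smul_apply, Matrix.one_apply_eq, smul_eq_mul, mul_one] at e00 e11
    simp only [Matrix.add_apply, Matrix.smul_apply, smul_eq_mul] at e01 e10
    rw [Matrix.one_apply_ne (by decide), mul_zero, zero_add] at e01 e10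
    rw [Matrix.trace_fin_two, Matrix.trace_fin_two] at htr
    rw [Matrix.trace_fin_two] at he2
    rw [Matrix.det_fin_two] at hM1 hN1
    rw [e00, e01, e10, e11] at hM1
    rw [e00, e11] at htr
    have h1 : 2 * x + 2 * ε * y = 2 * ε := by linear_combination htr + (1 - y) * he2
    have h2 : x ^ 2 + 2 * ε * x * y + y ^ 2 = 1 := by linear_combination hM1 - y ^ 2 * hN1 - x * y * he2
    have h3 : (x + ε * y - ε) * (x + ε * y + ε) = 0 := by
      linear_combination h2 + (y ^ 2 - 1) * he
    have h4 : x + ε * y = ε := by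
      rcases mul_eq_zero.1 h3 with h | h
      · exact sub_eq_zero.1 h
      · have h5 : 2 * (x + ε * y - ε) = 0 := by linear_combination h1
        rcases mul_eq_zero.1 h5 with h6 | h6
        · linear_combination h - ε * h6
        · exact sub_eq_zero.1 h6
    rw [hxy]
    have h5 : x = ε - y * ε := by linear_combination h4
    rw [h5, smul_sub, smul_smul, sub_smul]
    abel

/-- the kernel of a nonzero nilpotent matrix is a line -/
theorem ker_line {n : Matrix (Fin 2) (Fin 2) F} (hn : n ≠ 0) {u v : Fin 2 → F} (hu : n *ᵥ u = 0) (hv : n *ᵥ v = 0)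
    (hv0 : v ≠ 0) : ∃ c : F, u = c • v := by
  have hu0 := congrFun hu 0
  have hu1 := congrFun hu 1
  have hv0' := congrFun hv 0
  have hv1 := congrFun hv 1
  simp only [Matrix.mulVec, dotProduct, Fin.sum_univ_two, Pi.zero_apply] at hu0 hu1 hv0' hv1
  have hdet : u 0 * v 1 - u 1 * v 0 = 0 := by
    by_contra hcon
    apply hn
    have key : ∀ a b : F, a * u 0 + b * u 1 = 0 → a * v 0 + b * v 1 = 0 → a = 0 ∧ b = 0 := by
      intro a b h1 h2
      constructor
      · have : a * (u 0 * v 1 - u 1 * v 0) = 0 := by linear_combination v 1 * h1 - u 1 * h2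
        exact (mul_eq_zero.1 this).resolve_right hcon
      · have : b * (u 0 * v 1 - u 1 * v 0) = 0 := by linear_combination u 0 * h2 - v 0 * h1
        exact (mul_eq_zero.1 this).resolve_right hcon
    obtain ⟨h1, h2⟩ := key _ _ hu0 hv0'
    obtain ⟨h3, h4⟩ := key _ _ hu1 hv1
    exact ext2 h1 h2 h3 h4
  by_cases h0 : v 0 = 0
  · have h1 : v 1 ≠ 0 := by
      intro h1
      apply hv0
      funext i
      fin_cases i
      · exact h0
      · exact h1
    refine ⟨u 1 / v 1, ?_⟩
    funext i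
    fin_cases i
    · show u 0 = u 1 / v 1 * v 0
      field_simp
      linear_combination hdet
    · show u 1 = u 1 / v 1 * v 1
      field_simp
  · refine ⟨u 0 / v 0, ?_⟩
    funext i
    fin_cases i
    · show u 0 = u 0 / v 0 * v 0
      field_simp
    · show u 1 = u 0 / v 0 * v 1
      field_simp
      linear_combination -hdet

end Mat

section Grp

/-- an element of odd order whose square commutes with `e` commutes with `e` -/
theorem comm_of_sq {G : Type*} [Group G] {a e : G} (ha : (orderOf a).Coprime 6) (h : a * a * e = e * (a * a)) :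
    a * e = e * a := by
  have h2 : (orderOf a).Coprime 2 := Nat.Coprime.coprime_dvd_right ⟨3, by norm_num⟩ ha
  have h1 : Commute (a ^ 2) e := by rw [sq]; exact h
  have h3 : Odd (orderOf a) := Nat.coprime_two_right.1 h2
  obtain ⟨k, hk⟩ := h3
  have h4 : a = (a ^ 2) ^ (k + 1) := by
    rw [← pow_mul, mul_add, mul_one]
    have h5 : a ^ (2 * k + 2) = a ^ (2 * k + 1) * a := by rw [← pow_succ]
    rw [h5, ← hk, pow_orderOf_eq_one, one_mul]
  have h5 := h1.pow_left (k + 1)
  rw [← h4] at h5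
  exact h5

variable {F : Type*} [Field F] [Finite F]

/-- **Lemma D.** -/
theorem lemD (A B : _root_.Matrix.SpecialLinearGroup (Fin 2) F) (hA : (orderOf A).Coprime 6) (hB : (orderOf B).Coprime 6)
    (hAB : A * B ≠ B * A)
    (hev : ∀ v : Fin 2 → F, (∃ x : F, (A : Matrix (Fin 2) (Fin 2) F) *ᵥ v = x • v) →
      (∃ y : F, (B : Matrix (Fin 2) (Fin 2) F) *ᵥ v = y • v) → v = 0) :
    ¬ Group.IsSolvable (closure ({A, B} : Set (_root_.Matrix.SpecialLinearGroup (Fin 2) F))) := by
  intro hs
  generalize hG : _root_.Subgroup.closure ({A, B} : Set (_root_.Matrix.SpecialLinearGroup (Fin 2) F)) = G at hs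
  have hAG : A ∈ G := by rw [← hG]; exact Subgroup.subset_closure (by simp)
  have hBG : B ∈ G := by rw [← hG]; exact Subgroup.subset_closure (by simp)
  have hfinG : Finite G := inferInstance
  let a : G := ⟨A, hAG⟩
  let b : G := ⟨B, hBG⟩
  let μ : G → Matrix (Fin 2) (Fin 2) F := fun g => ((g : _root_.Matrix.SpecialLinearGroup (Fin 2) F) : Matrix (Fin 2) (Fin 2) F)
  have μmul : ∀ g h : G, μ (g * h) = μ g * μ h := fun _ _ => rfl
  have μone : μ 1 = 1 := rfl
  have μdet : ∀ g : G, (μ g).det = 1 := fun g => g.1.det_coe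
  have μinj : ∀ {g h : G}, μ g = μ h → g = h := by
    intro g h e
    apply Subtype.ext
    apply Subtype.ext
    exact e
  have hab : a * b ≠ b * a := fun h => hAB (congrArg Subtype.val h)
  have hoa : (orderOf a).Coprime 6 := by
    have : orderOf a = orderOf A := (Subgroup.orderOf_coe a).symm
    rw [this]; exact hA
  have hob : (orderOf b).Coprime 6 := by
    have : orderOf b = orderOf B := (Subgroup.orderOf_coe b).symm
    rw [this]; exact hB
  have hgen : ∀ x : G, a * x = x * a → b * x = x * b → x ∈ center G := by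
    intro x h1 h2
    rw [mem_center_iff]
    intro g
    have h3 : _root_.Subgroup.closure ({A, B} : Set (_root_.Matrix.SpecialLinearGroup (Fin 2) F)) ≤ centralizer ({(x : _root_.Matrix.SpecialLinearGroup (Fin 2) F)} : Set (_root_.Matrix.SpecialLinearGroup (Fin 2) F)) := by
      rw [closure_le]
      rintro y (rfl | rfl)
      · exact mem_centralizer_singleton_iff.2 (congrArg Subtype.val h1)
      · exact mem_centralizer_singleton_iff.2 (congrArg Subtype.val h2)
    exact Subtype.ext (mem_centralizer_singleton_iff.1 (h3 (by rw [hG]; exact g.2)))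
  -- scalars
  have hsc1 : ∀ z : G, Sc (μ z) → z ∈ center G := by
    rintro z ⟨x, hx⟩
    rw [mem_center_iff]
    intro g
    apply μinj
    rw [μmul, μmul, hx, Matrix.mul_smul, Matrix.smul_mul, Matrix.mul_one, Matrix.one_mul]
  have hkey : ∀ {e f h : G}, e * f ≠ f * e → h * e = e * h → h * f = f * h → h ∈ center G := by
    intro e f h hef h1 h2
    have he : ¬ Sc (μ e) := fun hc => hef (mem_center_iff.1 (hsc1 e hc) f).symm
    have h3 : μ h * μ e = μ e * μ h := by rw [← μmul, h1, μmul]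
    obtain ⟨x, y, hxy⟩ := exists_lin he h3
    have h4 : μ h * μ f = μ f * μ h := by rw [← μmul, h2, μmul]
    rw [hxy, add_mul, mul_add, Matrix.smul_mul, Matrix.mul_smul, Matrix.one_mul, Matrix.mul_one, add_right_inj,
      Matrix.smul_mul, Matrix.mul_smul] at h4
    have hy : y = 0 := by
      by_contra hy
      apply hef
      apply μinj
      rw [μmul, μmul]
      exact smul_right_injective _ hy h4
    apply hsc1
    rw [hy, zero_smul, add_zero] at hxy
    exact ⟨x, hxy⟩
  have hsc2 : ∀ z ∈ center G, Sc (μ z) := by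
    intro z hz
    have ha : ¬ Sc (μ a) := fun hc => hab (mem_center_iff.1 (hsc1 a hc) b).symm
    have h3 : μ z * μ a = μ a * μ z := by rw [← μmul, (mem_center_iff.1 hz a).symm, μmul]
    obtain ⟨x, y, hxy⟩ := exists_lin ha h3
    have h4 : μ z * μ b = μ b * μ z := by rw [← μmul, (mem_center_iff.1 hz b).symm, μmul]
    rw [hxy, add_mul, mul_add, Matrix.smul_mul, Matrix.mul_smul, Matrix.one_mul, Matrix.mul_one, add_right_inj,
      Matrix.smul_mul, Matrix.mul_smul] at h4
    have hy : y = 0 := by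
      by_contra hy
      apply hab
      apply μinj
      rw [μmul, μmul]
      exact smul_right_injective _ hy h4
    rw [hy, zero_smul, add_zero] at hxy
    exact ⟨x, hxy⟩
  have hzsq : ∀ z ∈ center G, z * z = 1 ∧ (z ≠ 1 → μ z = (-1 : F) • (1 : Matrix (Fin 2) (Fin 2) F)) := by
    intro z hz
    obtain ⟨x, hx⟩ := hsc2 z hz
    have h1 := μdet z
    rw [hx, Matrix.det_smul, Matrix.det_one, mul_one, Fintype.card_fin] at h1
    have h2 : (x - 1) * (x + 1) = 0 := by linear_combination h1
    constructor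
    · apply μinj
      rw [μmul, hx, μone, Matrix.smul_mul, Matrix.one_mul, smul_smul, ← sq, h1, one_smul]
    · intro hz1
      rcases mul_eq_zero.1 h2 with h | h
      · exfalso
        apply hz1
        apply μinj
        rw [hx, μone, sub_eq_zero.1 h, one_smul]
      · rw [hx, eq_neg_of_add_eq_zero_left h]
  have hane : a ∉ center G := fun h => hab (mem_center_iff.1 h b).symm
  -- the normal subgroup
  have hQs : Group.IsSolvable (⊤ : Subgroup (G ⧸ center G)) := by
    have h1 : Group.IsSolvable (G ⧸ center G) :=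
      Group.isSolvable_of_surjective (f := QuotientGroup.mk' (center G)) (QuotientGroup.mk'_surjective _)
    infer_instance
  have htb : (⊤ : Subgroup (G ⧸ center G)) ≠ ⊥ := by
    intro h
    apply hane
    rw [← QuotientGroup.eq_one_iff]
    have h1 : (a : G ⧸ center G) ∈ (⊤ : Subgroup (G ⧸ center G)) := mem_top _
    rw [h] at h1
    exact h1
  obtain ⟨l, R, -, hRn, hRb, -, -, hRc⟩ := exists_abel (⊤ : Subgroup (G ⧸ center G)) inferInstance hQs htb
  set E : Subgroup G := R.comap (QuotientGroup.mk' (center G)) with hE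
  have hEn : E.Normal := hRn.comap _
  obtain ⟨e₀, he₀E, he₀⟩ : ∃ e ∈ E, e ∉ center G := by
    by_contra hcon
    push Not at hcon
    apply hRb
    rw [eq_bot_iff]
    intro x hx
    obtain ⟨g, rfl⟩ := QuotientGroup.mk'_surjective (center G) x
    have h1 := hcon g hx
    rw [← QuotientGroup.eq_one_iff] at h1
    exact mem_bot.2 h1
  have hcomm : ∀ h ∈ E, ∀ k ∈ E, (h * k) * (k * h)⁻¹ ∈ center G := by
    intro h hh k hk
    have h1 := hRc _ hh _ hk
    rw [← map_mul, ← map_mul] at h1
    have h2 := QuotientGroup.eq.1 h1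
    have h3 : h * k * (k * h)⁻¹ = ((k * h) * ((h * k)⁻¹ * (k * h)) * (k * h)⁻¹)⁻¹ := by group
    rw [h3]
    exact inv_mem ((inferInstance : (center G).Normal).conj_mem _ h2 _)
  by_cases hcase : ∃ e ∈ E, e ∉ center G ∧ ∀ f ∈ E, e * f = f * e
  · -- an abelian normal subgroup
    obtain ⟨e, heE, hec, hcom⟩ := hcase
    have hesc : ¬ Sc (μ e) := fun h => hec (hsc1 e h)
    have htr : ∀ g : G, (μ (g * e * g⁻¹)).trace = (μ e).trace := by
      intro g
      rw [μmul, μmul, Matrix.trace_mul_cycle, ← μmul, inv_mul_cancel, μone, Matrix.one_mul]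
    have hcm : ∀ g : G, μ (g * e * g⁻¹) * μ e = μ e * μ (g * e * g⁻¹) := by
      intro g
      rw [← μmul, ← μmul, hcom _ (hEn.conj_mem e heE g)]
    by_cases ht : (μ e).trace ^ 2 = 4
    · obtain ⟨ε, hε1, hε2⟩ := exists_eps hesc (μdet e) ht
      set n := μ e - ε • (1 : Matrix (Fin 2) (Fin 2) F) with hn
      have hn0 : n ≠ 0 := fun h => hesc ⟨ε, sub_eq_zero.1 h⟩
      obtain ⟨w, hw⟩ : ∃ w : Fin 2 → F, n *ᵥ w ≠ 0 := by
        by_contra hcon
        push Not at hcon
        apply hn0
        ext i j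
        have h1 := congrFun (hcon (Pi.single j 1)) i
        rw [Matrix.mulVec_single_one] at h1
        exact h1
      have hker : n *ᵥ (n *ᵥ w) = 0 := by rw [Matrix.mulVec_mulVec, hε1, Matrix.zero_mulVec]
      have hstep : ∀ g : G, ∃ x : F, μ g *ᵥ (n *ᵥ w) = x • (n *ᵥ w) := by
        intro g
        obtain ⟨y, hy⟩ := hε2 _ (hcm g⁻¹) (htr g⁻¹) (μdet _)
        apply ker_line hn0 _ hker hw
        have h1 : n * μ g = μ g * (y • n) := by
          have h2 : g * (g⁻¹ * e * g⁻¹⁻¹) = e * g := by group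
          rw [← hy, hn, sub_mul, mul_sub, ← μmul, ← μmul, h2, Matrix.smul_mul, Matrix.mul_smul, Matrix.one_mul,
            Matrix.mul_one]
        rw [Matrix.mulVec_mulVec, h1, ← Matrix.mulVec_mulVec, Matrix.smul_mulVec, hker, smul_zero, Matrix.mulVec_zero]
      exact hw (hev _ (hstep a) (hstep b))
    · have hinv : μ e⁻¹ = (μ e).trace • (1 : Matrix (Fin 2) (Fin 2) F) - μ e := by
        have h1 := sq_eq (μ e) (μdet e)
        have h2 : μ e * ((μ e).trace • (1 : Matrix (Fin 2) (Fin 2) F) - μ e) = 1 := by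
          rw [mul_sub, h1, Matrix.mul_smul, Matrix.mul_one]
          abel
        calc μ e⁻¹ = μ e⁻¹ * (μ e * ((μ e).trace • (1 : Matrix (Fin 2) (Fin 2) F) - μ e)) := by
              rw [h2, Matrix.mul_one]
          _ = _ := by rw [← Matrix.mul_assoc, ← μmul, inv_mul_cancel, μone, Matrix.one_mul]
      have hstep : ∀ g : G, (orderOf g).Coprime 6 → g * e = e * g := by
        intro g hg
        apply comm_of_sq hg
        rcases eq_or_adj hesc (hcm g) (htr g) (μdet _) (μdet _) ht with h | h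
        · have h1 : g * e * g⁻¹ = e := μinj h
          have h2 : g * e = e * g := mul_inv_eq_iff_eq_mul.1 h1
          rw [mul_assoc, h2, ← mul_assoc, h2, mul_assoc]
        · have h1 : g * e * g⁻¹ = e⁻¹ := μinj (h.trans hinv.symm)
          have h2 : g * g * e * (g * g)⁻¹ = e := by
            calc g * g * e * (g * g)⁻¹ = g * (g * e * g⁻¹) * g⁻¹ := by group
              _ = g * e⁻¹ * g⁻¹ := by rw [h1]
              _ = (g * e * g⁻¹)⁻¹ := by group
              _ = e := by rw [h1, inv_inv]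
          exact mul_inv_eq_iff_eq_mul.1 h2
      exact hec (hgen e (hstep a hoa) (hstep b hob))
  · push Not at hcase
    obtain ⟨f₀, hf₀E, hef⟩ := hcase e₀ he₀E he₀
    have hsq : ∀ e ∈ E, e * e ∈ center G := by
      intro e he
      by_contra hcon
      obtain ⟨k, hk, hne⟩ := hcase (e * e) (mul_mem he he) hcon
      apply hne
      set z := (e * k) * (k * e)⁻¹ with hz
      have hzc : z ∈ center G := hcomm e he k hk
      have hzz := (hzsq z hzc).1
      have h1 : e * k = z * (k * e) := by rw [hz]; group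
      have hzcomm := mem_center_iff.1 hzc
      calc e * e * k = e * (e * k) := by group
        _ = e * (z * (k * e)) := by rw [h1]
        _ = (e * z) * (k * e) := by group
        _ = (z * e) * (k * e) := by rw [hzcomm e]
        _ = z * (e * k) * e := by group
        _ = z * (z * (k * e)) * e := by rw [h1]
        _ = (z * z) * (k * (e * e)) := by group
        _ = k * (e * e) := by rw [hzz, one_mul]
    -- two elements with the same pattern agree modulo the centre
    have hpat : ∀ {e h h' : G}, e ∈ E → h ∈ E → h' ∈ E → (h * e = e * h ↔ h' * e = e * h') →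
        (h⁻¹ * h') * e = e * (h⁻¹ * h') := by
      intro e h h' he hh hh' hiff
      by_cases h1 : h * e = e * h
      · have h2 := hiff.1 h1
        have h3 : h⁻¹ * e = e * h⁻¹ := by
          calc h⁻¹ * e = h⁻¹ * (e * h) * h⁻¹ := by group
            _ = h⁻¹ * (h * e) * h⁻¹ := by rw [h1]
            _ = e * h⁻¹ := by group
        rw [mul_assoc, h2, ← mul_assoc, h3, mul_assoc]
      · have h2 : ¬ h' * e = e * h' := fun h => h1 (hiff.2 h)
        have key : ∀ k ∈ E, ¬ k * e = e * k → μ ((k * e) * (e * k)⁻¹) = (-1 : F) • (1 : Matrix (Fin 2) (Fin 2) F) := by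
          intro k hk hne
          exact (hzsq _ (hcomm k hk e he)).2 (fun h => hne (mul_inv_eq_one.1 h))
        have h3 : (h * e) * (e * h)⁻¹ = (h' * e) * (e * h')⁻¹ := μinj ((key h hh h1).trans (key h' hh' h2).symm)
        set z := (h * e) * (e * h)⁻¹ with hz
        have hzc := mem_center_iff.1 (hcomm h hh e he)
        rw [← hz] at hzc
        have h4 : h * e = z * (e * h) := by rw [hz]; group
        have h5 : h' * e = z * (e * h') := by rw [h3]; group
        have h6 : h⁻¹ * z = z * h⁻¹ := hzc h⁻¹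
        have h7 : e * h⁻¹ = h⁻¹ * z * e := by
          calc e * h⁻¹ = h⁻¹ * (h * e) * h⁻¹ := by group
            _ = h⁻¹ * (z * (e * h)) * h⁻¹ := by rw [h4]
            _ = h⁻¹ * z * e := by group
        calc (h⁻¹ * h') * e = h⁻¹ * (h' * e) := by group
          _ = h⁻¹ * (z * (e * h')) := by rw [h5]
          _ = (h⁻¹ * z * e) * h' := by group
          _ = e * (h⁻¹ * h') := by rw [← h7]; group
    have hR4 : Nat.card R ≤ 4 := by
      classical
      let pat : R → Bool × Bool := fun x =>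
        (decide ((x.1.out : G) * e₀ = e₀ * x.1.out), decide ((x.1.out : G) * f₀ = f₀ * x.1.out))
      have houtE : ∀ x : R, (x.1.out : G) ∈ E := by
        intro x
        show QuotientGroup.mk' (center G) x.1.out ∈ R
        rw [QuotientGroup.mk'_apply, QuotientGroup.out_eq']
        exact x.2
      have hinj : Function.Injective pat := by
        intro x x' hxx
        have h1 : ((x.1.out : G) * e₀ = e₀ * x.1.out ↔ (x'.1.out : G) * e₀ = e₀ * x'.1.out) := by
          have := congrArg Prod.fst hxx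
          exact decide_eq_decide.1 this
        have h2 : ((x.1.out : G) * f₀ = f₀ * x.1.out ↔ (x'.1.out : G) * f₀ = f₀ * x'.1.out) := by
          have := congrArg Prod.snd hxx
          exact decide_eq_decide.1 this
        have h3 := hkey hef (hpat he₀E (houtE x) (houtE x') h1) (hpat hf₀E (houtE x) (houtE x') h2)
        apply Subtype.ext
        rw [← QuotientGroup.out_eq' x.1, ← QuotientGroup.out_eq' x'.1]
        exact QuotientGroup.eq.2 h3
      have := Nat.card_le_card_of_injective pat hinj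
      rwa [Nat.card_eq_fintype_card (α := Bool × Bool), Fintype.card_prod, Fintype.card_bool] at this
    have hfix : ∀ e ∈ E, a * e = e * a := by
      intro e he
      apply comm_of_sq hoa
      set T : Set (Subgroup (G ⧸ center G)) := Set.range (fun x : R => zpowers (x : G ⧸ center G)) with hT
      have hfin : T.Finite := Set.finite_range _
      have hcard : T.ncard ≤ 4 := by
        rw [← Nat.card_coe_set_eq]
        exact (Finite.card_range_le _).trans hR4
      have ho : (orderOf (MulAut.conj (a : G ⧸ center G))).Coprime 6 := by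
        refine Nat.Coprime.coprime_dvd_left ?_ hoa
        exact (orderOf_map_dvd (MulAut.conj : (G ⧸ center G) →* _) _).trans (orderOf_map_dvd (QuotientGroup.mk' (center G)) a)
      have h1 := fix_of_family ho T hfin hcard (by
        rintro _ ⟨x, rfl⟩
        refine ⟨⟨(a : G ⧸ center G) * x * (a : G ⧸ center G)⁻¹, hRn.conj_mem _ x.2 _⟩, ?_⟩
        show _ = (zpowers (x : G ⧸ center G)).map (MulAut.conj (a : G ⧸ center G)).toMonoidHom
        rw [MonoidHom.map_zpowers]
        rfl) (zpowers (e : G ⧸ center G)) ⟨⟨(e : G ⧸ center G), he⟩, rfl⟩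
      have h2 : (a : G ⧸ center G) * e * (a : G ⧸ center G)⁻¹ ∈ zpowers (e : G ⧸ center G) := by
        rw [← h1]
        exact ⟨e, mem_zpowers _, rfl⟩
      have hee : (e : G ⧸ center G) ^ 2 = 1 := by
        rw [sq]
        exact (QuotientGroup.eq_one_iff _).2 (hsq e he)
      have h3 : (a : G ⧸ center G) * e * (a : G ⧸ center G)⁻¹ = e := by
        obtain ⟨k, hk⟩ := h2
        have hk' : (e : G ⧸ center G) ^ k = (a : G ⧸ center G) * e * (a : G ⧸ center G)⁻¹ := hk
        rcases Int.even_or_odd' k with ⟨j, hj | hj⟩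
        · rw [hj, _root_.zpow_mul, zpow_ofNat, hee, _root_.one_zpow] at hk'
          have h4 : (e : G ⧸ center G) = 1 := by
            calc (e : G ⧸ center G) = (a : G ⧸ center G)⁻¹ * ((a : G ⧸ center G) * e * (a : G ⧸ center G)⁻¹) * a := by group
              _ = 1 := by rw [← hk']; group
          rw [h4]; group
        · rw [hj, _root_.zpow_add, _root_.zpow_mul, zpow_ofNat, hee, _root_.one_zpow, one_mul, zpow_one] at hk'
          exact hk'.symm
      have h4 : e⁻¹ * (a * e * a⁻¹) ∈ center G := QuotientGroup.eq.1 h3.symm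
      set z := e⁻¹ * (a * e * a⁻¹) with hz
      have hzc := mem_center_iff.1 h4
      have hzz := (hzsq z h4).1
      have h5 : a * e * a⁻¹ = e * z := by rw [hz]; group
      have h6 : a * a * e * (a * a)⁻¹ = e := by
        calc a * a * e * (a * a)⁻¹ = a * (a * e * a⁻¹) * a⁻¹ := by group
          _ = a * (e * z) * a⁻¹ := by rw [h5]
          _ = (a * e * a⁻¹) * (a * z * a⁻¹) := by group
          _ = (e * z) * (z * a * a⁻¹) := by rw [h5, hzc a]
          _ = e * (z * z) := by group
          _ = e := by rw [hzz, mul_one]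
      exact mul_inv_eq_iff_eq_mul.1 h6
    exact hane (hkey hef (hfix e₀ he₀E) (hfix f₀ hf₀E))

end Grp

end Cfsg.Agent.H520
end

-- part: H520/PslTwo
section
/-!
# Coprime automorphisms of `PSL₂(q)` (helper520)

`PP α` : every pair of elements `g⁻¹ α(g)`, `h⁻¹ α(h)` generates a solvable group.
`triv_PSL2` : a coprime automorphism `τ` of `PSL₂(q)` with `PP τ` is trivial.
-/

set_option autoImplicit false

namespace Cfsg.Agent.H520

open Subgroup Matrix

/-- every pair of commutators generates a solvable group -/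
def PP {G : Type*} [Group G] (α : MulAut G) : Prop :=
  ∀ g h : G, Group.IsSolvable (closure ({g⁻¹ * α g, h⁻¹ * α h} : Set G))

/-- solvable modulo the centre -/
theorem solvable_of_quo {S : Type*} [Group S] (H : Subgroup S)
    (h : Group.IsSolvable (H.map (QuotientGroup.mk' (center S)))) : Group.IsSolvable H := by
  let f : H →* H.map (QuotientGroup.mk' (center S)) := (QuotientGroup.mk' (center S)).subgroupMap H
  have h1 : Group.IsSolvable f.ker := by
    apply Group.isSolvable_of_comm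
    intro a b
    apply Subtype.ext
    apply Subtype.ext
    have ha : ((a : H) : S) ∈ center S := by
      have := congrArg Subtype.val (MonoidHom.mem_ker.1 a.2)
      exact (QuotientGroup.eq_one_iff _).1 this
    exact (mem_center_iff.1 ha _).symm
  exact Group.isSolvable_of_ker_le_range f.ker.subtype f (by rw [range_subtype])

theorem PP.congr {G H : Type*} [Group G] [Group H] (e : G ≃* H) {α : MulAut G} (h : PP α) : PP (MulAut.congr e α) := by
  intro x y
  have hap : ∀ x, MulAut.congr e α x = e (α (e.symm x)) := fun _ => rfl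
  have h1 := h (e.symm x) (e.symm y)
  have h2 : (_root_.Subgroup.closure ({(e.symm x)⁻¹ * α (e.symm x), (e.symm y)⁻¹ * α (e.symm y)} : Set G)).map e.toMonoidHom =
      _root_.Subgroup.closure ({x⁻¹ * MulAut.congr e α x, y⁻¹ * MulAut.congr e α y} : Set H) := by
    rw [MonoidHom.map_closure, Set.image_pair]
    congr 2
    · show e _ = _
      rw [map_mul, map_inv, e.apply_symm_apply, hap]
    · show {e _} = _
      rw [map_mul, map_inv, e.apply_symm_apply, hap]
  rw [← h2]
  exact Group.isSolvable_of_surjective (f := e.toMonoidHom.subgroupMap _) (e.toMonoidHom.subgroupMap_surjective _)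

section Fld

variable {F : Type*} [Field F]

/-- an element fixed by a power of exponent prime to the order is fixed -/
theorem fix_of_pow {σ : F ≃+* F} {k : ℕ} (hk : k.Coprime (orderOf σ)) {x : F} (h : (σ ^ k) x = x) : σ x = x := by
  obtain ⟨m, hm⟩ := exists_pow_eq_self_of_coprime hk
  have h1 : ∀ m : ℕ, ((σ ^ k) ^ m) x = x := by
    intro m
    induction m with
    | zero => rfl
    | succ m ih => rw [pow_succ, RingAut.mul_apply, h, ih]
  have h2 := h1 m
  rwa [hm] at h2

/-- if `σ(a) = t a` with `t² = 1` or `t³ = 1` then `t = 1` -/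
theorem no_tors {σ : F ≃+* F} (h6 : (orderOf σ).Coprime 6) {a t : F} (ha : a ≠ 0) (h : σ a = t * a)
    (ht : t ^ 2 = 1 ∨ t ^ 3 = 1) : t = 1 := by
  have h2 : Nat.Coprime 2 (orderOf σ) := (Nat.Coprime.coprime_dvd_right ⟨3, by norm_num⟩ h6).symm
  have h3 : Nat.Coprime 3 (orderOf σ) := (Nat.Coprime.coprime_dvd_right ⟨2, by norm_num⟩ h6).symm
  have key : σ a = a → t = 1 := by
    intro h1
    rw [h1] at h
    exact (mul_eq_right₀ ha).1 h.symm
  rcases ht with ht | ht
  · apply key
    apply fix_of_pow h2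
    have h1 : σ t = t := by
      have h4 : (t - 1) * (t + 1) = 0 := by linear_combination ht
      rcases mul_eq_zero.1 h4 with h5 | h5
      · rw [sub_eq_zero.1 h5, map_one]
      · rw [eq_neg_of_add_eq_zero_left h5, map_neg, map_one]
    rw [pow_two, RingAut.mul_apply, h, map_mul, h1, h]
    linear_combination a * ht
  · have h1 : σ t = t := by
      apply fix_of_pow h2
      have h4 : (t - 1) * (t ^ 2 + t + 1) = 0 := by linear_combination ht
      rcases mul_eq_zero.1 h4 with h5 | h5
      · rw [sub_eq_zero.1 h5, map_one]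
      · have h6 : (σ t) ^ 2 + σ t + 1 = 0 := by
          have := congrArg σ h5
          rwa [map_add, map_add, map_one, map_pow, map_zero] at this
        have h7 : (σ t - t) * (σ t + t + 1) = 0 := by linear_combination h6 - h5
        rcases mul_eq_zero.1 h7 with h8 | h8
        · have h9 := sub_eq_zero.1 h8
          rw [pow_two, RingAut.mul_apply, h9, h9]
        · have h9 : σ t = -t - 1 := by linear_combination h8
          rw [pow_two, RingAut.mul_apply, h9, map_sub, map_neg, map_one, h9]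
          ring
    apply key
    apply fix_of_pow h3
    rw [pow_succ, pow_two, RingAut.mul_apply, RingAut.mul_apply, h, map_mul, h1, h, map_mul, map_mul, h1, h]
    linear_combination a * ht

end Fld

section Main

open Cfsg.Agent.ClassicalGeometry.AutPSL.Auto Cfsg.Agent.ClassicalGeometry.AutPSL.Main

variable {F : Type*} [Field F] [Finite F]

omit [Finite F] in
theorem sl_ext {M N : _root_.Matrix.SpecialLinearGroup (Fin 2) F} (h00 : M.1 0 0 = N.1 0 0) (h01 : M.1 0 1 = N.1 0 1)
    (h10 : M.1 1 0 = N.1 1 0) (h11 : M.1 1 1 = N.1 1 1) : M = N := Subtype.ext (ext2 h00 h01 h10 h11)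

/-- diagonal matrices -/
def dgm (s : F) (hs : s ≠ 0) : _root_.Matrix.SpecialLinearGroup (Fin 2) F :=
  ⟨!![s, 0; 0, s⁻¹], by rw [Matrix.det_fin_two_of, mul_inv_cancel₀ hs, mul_zero, sub_zero]⟩

omit [Finite F] in
theorem dgm_pow (s : F) (hs : s ≠ 0) (j : ℕ) : dgm s hs ^ j = dgm (s ^ j) (pow_ne_zero j hs) := by
  induction j with
  | zero =>
    rw [pow_zero]
    refine sl_ext ?_ rfl rfl ?_
    · show 1 = s ^ 0
      rw [pow_zero]
    · show 1 = (s ^ 0)⁻¹
      rw [pow_zero, inv_one]
  | succ j ih =>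
    rw [pow_succ, ih]
    refine sl_ext ?_ ?_ ?_ ?_
    · show (!![s ^ j, 0; 0, (s ^ j)⁻¹] * !![s, 0; 0, s⁻¹]) 0 0 = s ^ (j + 1)
      rw [Matrix.mul_apply, Fin.sum_univ_two]
      simp [pow_succ]
    · show (!![s ^ j, 0; 0, (s ^ j)⁻¹] * !![s, 0; 0, s⁻¹]) 0 1 = 0
      rw [Matrix.mul_apply, Fin.sum_univ_two]
      simp
    · show (!![s ^ j, 0; 0, (s ^ j)⁻¹] * !![s, 0; 0, s⁻¹]) 1 0 = 0
      rw [Matrix.mul_apply, Fin.sum_univ_two]
      simp
    · show (!![s ^ j, 0; 0, (s ^ j)⁻¹] * !![s, 0; 0, s⁻¹]) 1 1 = (s ^ (j + 1))⁻¹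
      rw [Matrix.mul_apply, Fin.sum_univ_two]
      simp [pow_succ, mul_comm]

/-- the order of `diag(s, s⁻¹)`, `s = σ(a) / a` -/
theorem order_dgm {σ : F ≃+* F} (h6 : (orderOf σ).Coprime 6) {a s : F} (ha : a ≠ 0) (hs : s ≠ 0) (h : σ a = s * a) :
    (orderOf (dgm s hs)).Coprime 6 := by
  have key : ∀ p : ℕ, p.Prime → (p = 2 ∨ p = 3) → (orderOf (dgm s hs)).Coprime p := by
    intro p hp hp23
    rw [Nat.coprime_comm, Nat.Prime.coprime_iff_not_dvd hp]
    rintro ⟨j, hj⟩
    have h1 : dgm s hs ^ (j * p) = 1 := by rw [mul_comm, ← hj, pow_orderOf_eq_one]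
    rw [dgm_pow] at h1
    have h2 : s ^ (j * p) = 1 := congrFun (congrFun (congrArg Subtype.val h1) 0) 0
    have h3 : σ (a ^ j) = s ^ j * a ^ j := by rw [map_pow, h, mul_pow]
    have h4 : s ^ j = 1 := by
      apply no_tors h6 (pow_ne_zero j ha) h3
      rcases hp23 with rfl | rfl
      · left; rw [← pow_mul, h2]
      · right; rw [← pow_mul, h2]
    have h5 : dgm s hs ^ j = 1 := by
      rw [dgm_pow]
      refine sl_ext ?_ rfl rfl ?_
      · exact h4
      · show (s ^ j)⁻¹ = 1
        rw [h4, inv_one]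
    have h6 := orderOf_dvd_of_pow_eq_one h5
    have hpos : 0 < orderOf (dgm s hs) := orderOf_pos _
    have hjpos : 0 < j := by
      rcases Nat.eq_zero_or_pos j with h | h
      · rw [h, mul_zero] at hj; omega
      · exact h
    have h7 := Nat.le_of_dvd hjpos h6
    rw [hj] at h7
    have := hp.two_le
    nlinarith only [hjpos, h7, this]
  exact Nat.Coprime.mul_right (key 2 Nat.prime_two (Or.inl rfl)) (key 3 Nat.prime_three (Or.inr rfl))

/-- **Nontrivial field automorphisms of `SL₂(F)`.** -/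
theorem sl_false {σ : F ≃+* F} (h6 : (orderOf σ).Coprime 6) (hσ : σ ≠ 1)
    (h : ∀ g h : _root_.Matrix.SpecialLinearGroup (Fin 2) F,
      Group.IsSolvable (closure ({g⁻¹ * fld σ g, h⁻¹ * fld σ h} : Set (_root_.Matrix.SpecialLinearGroup (Fin 2) F)))) : False := by
  obtain ⟨a, ha⟩ : ∃ a, σ a ≠ a := by
    by_contra hcon
    push Not at hcon
    exact hσ (RingEquiv.ext hcon)
  have ha0 : a ≠ 0 := by
    rintro rfl
    exact ha (map_zero σ)
  have hsa0 : σ a ≠ 0 := (map_ne_zero σ).2 ha0
  have h2c : Nat.Coprime 2 (orderOf σ) := (Nat.Coprime.coprime_dvd_right ⟨3, by norm_num⟩ h6).symm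
  set s := σ a / a with hs
  have hs0 : s ≠ 0 := div_ne_zero hsa0 ha0
  have hsa : σ a = s * a := by rw [hs]; field_simp
  have hs2 : s * s ≠ 1 := by
    intro h1
    have h2 := no_tors h6 ha0 hsa (Or.inl (by rw [sq]; exact h1))
    rw [h2, one_mul] at hsa
    exact ha hsa
  have hsum : a + σ a ≠ 0 := by
    intro h1
    have h2 : σ a = (-1) * a := by linear_combination h1
    have h3 := no_tors h6 ha0 h2 (Or.inl (by norm_num))
    rw [h3, one_mul] at h2
    exact ha h2
  have hsum1 : a + σ a ≠ 1 := by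
    intro h1
    apply ha
    apply fix_of_pow h2c
    have h2 := congrArg σ h1
    rw [map_add, map_one] at h2
    rw [pow_two, RingAut.mul_apply]
    linear_combination h2 - h1
  set w := -1 / (a + σ a) with hw
  have hw0 : w ≠ 0 := div_ne_zero (neg_ne_zero.2 one_ne_zero) hsum
  have hw1 : 1 + w ≠ 0 := by
    intro h1
    apply hsum1
    rw [hw] at h1
    field_simp at h1
    linear_combination h1
  have hwe : w * (a + σ a) = -1 := by rw [hw]; field_simp
  let V : _root_.Matrix.SpecialLinearGroup (Fin 2) F := ⟨!![1, w; 1, 1 + w], by rw [Matrix.det_fin_two_of]; ring⟩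
  let k : _root_.Matrix.SpecialLinearGroup (Fin 2) F := ⟨!![a - 1, 1; -a⁻¹, a⁻¹], by
    rw [Matrix.det_fin_two_of]
    field_simp
    ring⟩
  set A := dgm s hs0 with hA
  have hoA : (orderOf A).Coprime 6 := order_dgm h6 ha0 hs0 hsa
  have hAd : (dgm a ha0)⁻¹ * fld σ (dgm a ha0) = A := by
    rw [inv_mul_eq_iff_eq_mul]
    refine sl_ext ?_ ?_ ?_ ?_
    · show σ a = (!![a, 0; 0, a⁻¹] * !![s, 0; 0, s⁻¹]) 0 0
      rw [Matrix.mul_apply, Fin.sum_univ_two]
      simp [hsa, mul_comm]
    · show σ 0 = (!![a, 0; 0, a⁻¹] * !![s, 0; 0, s⁻¹]) 0 1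
      rw [Matrix.mul_apply, Fin.sum_univ_two]
      simp
    · show σ 0 = (!![a, 0; 0, a⁻¹] * !![s, 0; 0, s⁻¹]) 1 0
      rw [Matrix.mul_apply, Fin.sum_univ_two]
      simp
    · show σ a⁻¹ = (!![a, 0; 0, a⁻¹] * !![s, 0; 0, s⁻¹]) 1 1
      rw [Matrix.mul_apply, Fin.sum_univ_two]
      simp [hsa, map_inv₀]
  have hBk : k⁻¹ * fld σ k = V * A * V⁻¹ := by
    rw [inv_mul_eq_iff_eq_mul, ← mul_assoc, eq_mul_inv_iff_mul_eq, ← mul_assoc]
    have hinv : σ a⁻¹ = a⁻¹ * s⁻¹ := by rw [map_inv₀, hsa, mul_inv, mul_comm]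
    refine sl_ext ?_ ?_ ?_ ?_
    · show (!![σ (a - 1), σ 1; σ (-a⁻¹), σ a⁻¹] * !![1, w; 1, 1 + w]) 0 0 =
        (!![a - 1, 1; -a⁻¹, a⁻¹] * !![1, w; 1, 1 + w] * !![s, 0; 0, s⁻¹]) 0 0
      rw [Matrix.mul_fin_two, Matrix.mul_fin_two, Matrix.mul_fin_two]
      show σ (a - 1) * 1 + σ 1 * 1 = ((a - 1) * 1 + 1 * 1) * s + ((a - 1) * w + 1 * (1 + w)) * 0
      rw [map_sub, map_one]
      linear_combination hsa
    · show (!![σ (a - 1), σ 1; σ (-a⁻¹), σ a⁻¹] * !![1, w; 1, 1 + w]) 0 1 =
        (!![a - 1, 1; -a⁻¹, a⁻¹] * !![1, w; 1, 1 + w] * !![s, 0; 0, s⁻¹]) 0 1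
      rw [Matrix.mul_fin_two, Matrix.mul_fin_two, Matrix.mul_fin_two]
      show σ (a - 1) * w + σ 1 * (1 + w) = ((a - 1) * 1 + 1 * 1) * 0 + ((a - 1) * w + 1 * (1 + w)) * s⁻¹
      rw [map_sub, map_one]
      have h1 : (s * a * w + 1) * s = a * w + 1 := by
        rw [hsa] at hwe
        linear_combination (s - 1) * hwe
      have h2 : s * a * w + 1 = (a * w + 1) * s⁻¹ := by
        rw [← h1]
        field_simp
      rw [hsa]
      linear_combination h2
    · show (!![σ (a - 1), σ 1; σ (-a⁻¹), σ a⁻¹] * !![1, w; 1, 1 + w]) 1 0 =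
        (!![a - 1, 1; -a⁻¹, a⁻¹] * !![1, w; 1, 1 + w] * !![s, 0; 0, s⁻¹]) 1 0
      rw [Matrix.mul_fin_two, Matrix.mul_fin_two, Matrix.mul_fin_two]
      show σ (-a⁻¹) * 1 + σ a⁻¹ * 1 = (-a⁻¹ * 1 + a⁻¹ * 1) * s + (-a⁻¹ * w + a⁻¹ * (1 + w)) * 0
      rw [map_neg]
      ring
    · show (!![σ (a - 1), σ 1; σ (-a⁻¹), σ a⁻¹] * !![1, w; 1, 1 + w]) 1 1 =
        (!![a - 1, 1; -a⁻¹, a⁻¹] * !![1, w; 1, 1 + w] * !![s, 0; 0, s⁻¹]) 1 1
      rw [Matrix.mul_fin_two, Matrix.mul_fin_two, Matrix.mul_fin_two]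
      show σ (-a⁻¹) * w + σ a⁻¹ * (1 + w) = (-a⁻¹ * 1 + a⁻¹ * 1) * 0 + (-a⁻¹ * w + a⁻¹ * (1 + w)) * s⁻¹
      rw [map_neg, hinv]
      ring
  set B := V * A * V⁻¹ with hB
  have hoB : (orderOf B).Coprime 6 := by
    have h1 : orderOf B = orderOf A := by
      have h2 : B = MulAut.conj V A := rfl
      rw [h2]
      exact MulEquiv.orderOf_eq _ _
    rw [h1]; exact hoA
  have hss : s - s⁻¹ ≠ 0 := by
    intro h1
    apply hs2
    have h3 := sub_eq_zero.1 h1
    nth_rewrite 2 [h3]
    exact mul_inv_cancel₀ hs0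
  have hBe : B.1 = !![s * (1 + w) - w * s⁻¹, -(w * (s - s⁻¹)); (1 + w) * (s - s⁻¹), -s * w + (1 + w) * s⁻¹] := by
    have h1 : (V⁻¹ : _root_.Matrix.SpecialLinearGroup (Fin 2) F).1 = !![1 + w, -w; -1, 1] := by
      rw [Matrix.SpecialLinearGroup.SL2_inv_expl]
      rfl
    have h2 : B.1 = !![1, w; 1, 1 + w] * !![s, 0; 0, s⁻¹] * (V⁻¹ : _root_.Matrix.SpecialLinearGroup (Fin 2) F).1 := rfl
    rw [h2, h1, Matrix.mul_fin_two, Matrix.mul_fin_two]
    refine ext2 ?_ ?_ ?_ ?_
    · show (1 * s + w * 0) * (1 + w) + (1 * 0 + w * s⁻¹) * -1 = s * (1 + w) - w * s⁻¹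
      ring
    · show (1 * s + w * 0) * -w + (1 * 0 + w * s⁻¹) * 1 = -(w * (s - s⁻¹))
      ring
    · show (1 * s + (1 + w) * 0) * (1 + w) + (1 * 0 + (1 + w) * s⁻¹) * -1 = (1 + w) * (s - s⁻¹)
      ring
    · show (1 * s + (1 + w) * 0) * -w + (1 * 0 + (1 + w) * s⁻¹) * 1 = -s * w + (1 + w) * s⁻¹
      ring
  have hB01 : B.1 0 1 ≠ 0 := by
    rw [hBe]
    exact neg_ne_zero.2 (mul_ne_zero hw0 hss)
  have hB10 : B.1 1 0 ≠ 0 := by
    rw [hBe]
    exact mul_ne_zero hw1 hss
  have h1 := h (dgm a ha0) k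
  rw [hAd, hBk] at h1
  refine lemD A B hoA hoB ?_ ?_ h1
  · intro hAB
    have h2 := congrFun (congrFun (congrArg Subtype.val hAB) 0) 1
    have h3 : (!![s, 0; 0, s⁻¹] * B.1) 0 1 = (B.1 * !![s, 0; 0, s⁻¹]) 0 1 := h2
    rw [Matrix.mul_apply, Matrix.mul_apply, Fin.sum_univ_two, Fin.sum_univ_two] at h3
    have h4 : s * B.1 0 1 + 0 * B.1 1 1 = B.1 0 0 * 0 + B.1 0 1 * s⁻¹ := h3
    have h5 : (s - s⁻¹) * B.1 0 1 = 0 := by linear_combination h4
    rcases mul_eq_zero.1 h5 with h6 | h6
    · exact hss h6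
    · exact hB01 h6
  · rintro v ⟨x, hx⟩ ⟨y, hy⟩
    have hx0 : s * v 0 = x * v 0 := by
      have h2 := congrFun hx 0
      have h3 : (!![s, 0; 0, s⁻¹] *ᵥ v) 0 = x * v 0 := h2
      simpa only [Matrix.mulVec, dotProduct, Fin.sum_univ_two, _root_.Fin.isValue, _root_.mul_eq_mul_right_iff, _root_.Matrix.of_apply, _root_.Matrix.cons_val', _root_.Matrix.cons_val_fin_one, _root_.Matrix.cons_val_zero, _root_.Matrix.cons_val_one, _root_.MulZeroClass.zero_mul, _root_.add_zero] using h3
    have hx1 : s⁻¹ * v 1 = x * v 1 := by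
      have h2 := congrFun hx 1
      have h3 : (!![s, 0; 0, s⁻¹] *ᵥ v) 1 = x * v 1 := h2
      simpa only [Matrix.mulVec, dotProduct, Fin.sum_univ_two, _root_.Fin.isValue, _root_.mul_eq_mul_right_iff, _root_.Matrix.of_apply, _root_.Matrix.cons_val', _root_.Matrix.cons_val_fin_one, _root_.Matrix.cons_val_one, _root_.Matrix.cons_val_zero, _root_.MulZeroClass.zero_mul, _root_.zero_add] using h3
    have hy0 : B.1 0 0 * v 0 + B.1 0 1 * v 1 = y * v 0 := by
      have h2 := congrFun hy 0
      simpa only [Matrix.mulVec, dotProduct, Fin.sum_univ_two, _root_.Fin.isValue, _root_.Pi.smul_apply, _root_.smul_eq_mul] using h2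
    have hy1 : B.1 1 0 * v 0 + B.1 1 1 * v 1 = y * v 1 := by
      have h2 := congrFun hy 1
      simpa only [Matrix.mulVec, dotProduct, Fin.sum_univ_two, _root_.Fin.isValue, _root_.Pi.smul_apply, _root_.smul_eq_mul] using h2
    have h3 : v 0 = 0 ∨ v 1 = 0 := by
      by_contra hcon
      push Not at hcon
      apply hss
      have e1 := mul_right_cancel₀ hcon.1 hx0
      have e2 := mul_right_cancel₀ hcon.2 hx1
      rw [e2, e1, sub_self]
    have h4 : v 0 = 0 ∧ v 1 = 0 := by
      rcases h3 with h3 | h3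
      · refine ⟨h3, ?_⟩
        rw [h3, mul_zero, mul_zero, zero_add] at hy0
        exact (mul_eq_zero.1 hy0).resolve_left hB01
      · refine ⟨?_, h3⟩
        rw [h3, mul_zero, mul_zero, add_zero] at hy1
        exact (mul_eq_zero.1 hy1).resolve_left hB10
    funext i
    fin_cases i
    · exact h4.1
    · exact h4.2

/-- **The groups `PSL₂(q)`.** -/
theorem triv_PSL2 [Fintype F] (h4 : 4 ≤ Fintype.card F) [IsSimpleGroup (ProjectiveSpecialLinearGroup (Fin 2) F)]
    (hna : ¬ IsMulCommutative (ProjectiveSpecialLinearGroup (Fin 2) F))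
    (h2 : 2 ∣ Nat.card (ProjectiveSpecialLinearGroup (Fin 2) F))
    (h3 : 3 ∣ Nat.card (ProjectiveSpecialLinearGroup (Fin 2) F))
    {τ : MulAut (ProjectiveSpecialLinearGroup (Fin 2) F)}
    (hco : (orderOf τ).Coprime (Nat.card (ProjectiveSpecialLinearGroup (Fin 2) F))) (h : PP τ) : τ = 1 := by
  obtain ⟨ρ, hρ, -⟩ := H254.exists_ringAut F
  have hc := H254.PSL.copIn (le_refl 2) (fun _ => h4) hna h2 ρ hρ
  obtain ⟨g, hg⟩ := hc (zpowers τ) (by rw [Nat.card_zpowers]; exact hco)
  have h5 : g * τ * g⁻¹ ∈ zpowers (lift (fld ρ) : MulAut (ProjectiveSpecialLinearGroup (Fin 2) F)) := by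
    apply hg
    exact ⟨τ, mem_zpowers τ, rfl⟩
  obtain ⟨k, hk⟩ := h5
  have h6 : g * τ * g⁻¹ = lift (fld (ρ ^ k)) := by rw [map_zpow, map_zpow]; exact hk.symm
  have hh : PP (g * τ * g⁻¹) := h.congr g
  rw [h6] at hh
  by_contra hτ
  have hσ : ρ ^ k ≠ 1 := by
    intro h7
    apply hτ
    rw [h7, map_one, map_one] at h6
    have h8 : τ = g⁻¹ * (g * τ * g⁻¹) * g := by group
    rw [h8, h6, mul_one, inv_mul_cancel]
  refine sl_false (σ := ρ ^ k) ?_ hσ ?_
  · have h7 := H254.PSL.orderOf_dvd (F := F) (le_refl 2) (ρ ^ k)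
    rw [← h6] at h7
    have h8 : orderOf (g * τ * g⁻¹) = orderOf τ := by
      have : g * τ * g⁻¹ = MulAut.conj g τ := rfl
      rw [this]
      exact MulEquiv.orderOf_eq _ _
    rw [h8] at h7
    refine Nat.Coprime.coprime_dvd_left h7 (Nat.Coprime.coprime_dvd_right ?_ hco)
    exact Nat.Coprime.mul_dvd_of_dvd_of_dvd (by norm_num : Nat.Coprime 2 3) h2 h3
  · intro x y
    apply solvable_of_quo
    have h7 := hh (x : ProjectiveSpecialLinearGroup (Fin 2) F) (y : ProjectiveSpecialLinearGroup (Fin 2) F)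
    rw [MonoidHom.map_closure, Set.image_pair]
    exact h7

end Main

end Cfsg.Agent.H520
end

-- part: H520/SzT
section
/-!
# Coprime automorphisms of the Suzuki groups (helper520)

`triv_Sz` : a coprime automorphism `τ` of `Sz(q)` with `PP τ` is trivial.
-/

set_option autoImplicit false

namespace Cfsg.Agent.H520

open Cfsg MulAction
open Cfsg.Agent.LieExceptional
open Cfsg.Agent.LieExceptional.SuzukiBasic Cfsg.Agent.LieExceptional.SuzukiSylow
open Cfsg.Agent.LieExceptional.SuzukiCN
open Cfsg.Agent.H98.SzBasic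
open Cfsg.Agent.H102.SzSol
open Cfsg.Agent.H102.RankOneSol (Hyp Free Fix1 Fix2 IsT)
open Cfsg.Agent.LieRecognition.SzMatrix

variable {F : Type*} [Field F] [Fintype F] {m : ℕ}

/-- the isomorphism of the two models, with the same matrices -/
noncomputable def szE (hm : 1 ≤ m) (hF : Fintype.card F = 2 ^ (2 * m + 1)) :
    ↥(Cfsg.Sz F m) ≃* ↥(Cfsg.Lie.Sz F (2 ^ (m + 1))) :=
  (MonoidHom.ofInjective OddCyclic.ClaimC.SzIso.jj_injective).trans
    (MulEquiv.subgroupCongr (OddCyclic.ClaimC.SzIso.range_eq hm hF).symm)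

theorem szE_val (hm : 1 ≤ m) (hF : Fintype.card F = 2 ^ (2 * m + 1)) (g : ↥(Cfsg.Sz F m)) :
    (szE hm hF g).1.1 = g.1.1 := rfl

/-- the field automorphisms -/
noncomputable def fa (hm : 1 ≤ m) (hF : Fintype.card F = 2 ^ (2 * m + 1)) : (F ≃+* F) →* MulAut ↥(Cfsg.Sz F m) :=
  (MulAut.congr (szE hm hF).symm).toMonoidHom.comp (H70.SzOut.fieldAut (good hF))

theorem fa_val (hm : 1 ≤ m) (hF : Fintype.card F = 2 ^ (2 * m + 1)) (σ : F ≃+* F) (g : ↥(Cfsg.Sz F m)) :
    (fa hm hF σ g).1.1 = g.1.1.map σ := by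
  have h1 : szE hm hF (fa hm hF σ g) = H70.SzOut.fieldAut (good hF) σ (szE hm hF g) :=
    (szE hm hF).apply_symm_apply _
  rw [← szE_val hm hF, h1]
  ext i j
  exact H70.SzOut.fieldAut_apply (good hF) σ _ i j

omit [Fintype F] in
theorem sz_ext {g h : ↥(Cfsg.Sz F m)} (H : ∀ i j, g.1.1 i j = h.1.1 i j) : g = h :=
  Subtype.ext (Subtype.ext (Matrix.ext H))

theorem fa_u (hm : 1 ≤ m) (hF : Fintype.card F = 2 ^ (2 * m + 1)) (σ : F ≃+* F) (a b : F) :
    fa hm hF σ (u hF a b) = u hF (σ a) (σ b) := by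
  refine sz_ext fun i j => ?_
  rw [fa_val]
  show σ ((U m a b : Matrix (Fin 4) (Fin 4) F) i j) = (U m (σ a) (σ b) : Matrix (Fin 4) (Fin 4) F) i j
  rw [U_coe, U_coe]
  (revert i j; simp only [zc_def, _root_.Fin.forall_fin_succ, _root_.Matrix.of_apply, _root_.Matrix.cons_val', _root_.Matrix.cons_val_fin_one, Fin.isValue, _root_.Matrix.cons_val_zero, _root_.Matrix.cons_val_succ, _root_.forall_const, _root_.map_one, _root_.map_add, _root_.map_pow, _root_.map_mul, _root_.and_self, _root_.map_zero, _root_.and_self_left, _root_.implies_true])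

theorem fa_h (hm : 1 ≤ m) (hF : Fintype.card F = 2 ^ (2 * m + 1)) (σ : F ≃+* F) (k : Fˣ) :
    fa hm hF σ (h hF k) = h hF (Units.map (σ : F →* F) k) := by
  refine sz_ext fun i j => ?_
  rw [fa_val]
  show σ ((H m k : Matrix (Fin 4) (Fin 4) F) i j) = (H m (Units.map (σ : F →* F) k) : Matrix (Fin 4) (Fin 4) F) i j
  rw [H_coe, H_coe]
  (revert i j; simp only [_root_.Fin.forall_fin_succ, _root_.Nat.succ_eq_add_one, Nat.reduceAdd, _root_.Units.val_inv_eq_inv_val, _root_.inv_pow, _root_.Units.coe_map, _root_.MonoidHom.coe_coe, Fin.isValue, _root_.Fin.succ_zero_eq_one, _root_.Fin.succ_one_eq_two, Fin.reduceSucc, _root_.IsEmpty.forall_iff, _root_.and_true, _root_.Matrix.diagonal_apply_eq, _root_.Matrix.cons_val_zero, _root_.map_pow, _root_.ne_eq, _root_.zero_ne_one, _root_.not_false_eq_true, _root_.Matrix.diagonal_apply_ne, _root_.map_zero, Fin.reduceEq, _root_.and_self, _root_.Fin.succ_ne_zero, _root_.true_and, _root_.Matrix.cons_val_one, _root_.Matrix.cons_val, _root_.map_inv₀])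

theorem fa_w (hm : 1 ≤ m) (hF : Fintype.card F = 2 ^ (2 * m + 1)) (σ : F ≃+* F) :
    fa hm hF σ (w hF) = w hF := by
  refine sz_ext fun i j => ?_
  rw [fa_val]
  show σ ((SuzukiBasic.W F : Matrix (Fin 4) (Fin 4) F) i j) = (SuzukiBasic.W F : Matrix (Fin 4) (Fin 4) F) i j
  rw [SuzukiBasic.W_coe]
  (revert i j; simp only [_root_.Fin.forall_fin_succ, _root_.Matrix.of_apply, _root_.Matrix.cons_val', _root_.Matrix.cons_val_fin_one, Fin.isValue, _root_.Matrix.cons_val_zero, _root_.Matrix.cons_val_succ, _root_.forall_const, _root_.map_zero, _root_.map_one, _root_.and_self, _root_.implies_true])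

/-- **Coprime groups of automorphisms of the Suzuki groups.** -/
theorem copIn_sz (hm : 1 ≤ m) (hF : Fintype.card F = 2 ^ (2 * m + 1)) {ρ : F ≃+* F}
    (hρ : orderOf ρ = Nat.card (F ≃+* F)) : H254.CopIn ↥(Cfsg.Sz F m) (fa hm hF ρ) := by
  have h2 : Fact (Nat.Prime 2) := ⟨Nat.prime_two⟩
  have hr : orderOf ρ = 2 * m + 1 := by
    rw [hρ]
    exact Lib.FieldAutCard.card_ringAut (p := 2) (by omega) hF
  have hfin : Finite ↥(Cfsg.Lie.Sz F (2 ^ (m + 1))) := Finite.of_equiv _ (szE hm hF).toEquiv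
  have hout : Nat.card (Cfsg.Out ↥(Cfsg.Lie.Sz F (2 ^ (m + 1)))) = 2 * m + 1 := H70.SzOut.card_out hm hF
  have hs : Group.IsSolvable (Cfsg.Out ↥(Cfsg.Lie.Sz F (2 ^ (m + 1)))) := S0205.result (by rw [hout]; exact ⟨m, rfl⟩)
  have h1 : H254.CopIn ↥(Cfsg.Lie.Sz F (2 ^ (m + 1))) (H70.SzOut.fieldAut (good hF) ρ) := by
    refine H254.CopIn.of_field' hs _ 1 one_ne_zero (fun r hr h => absurd (Nat.dvd_one.1 h) hr.ne_one) ?_
    rw [hout, one_mul]
    have h3 : orderOf (H70.SzOut.fieldAut (good hF) ρ) = orderOf ρ := by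
      apply orderOf_injective
      rw [injective_iff_map_eq_one]
      intro σ hσ
      exact H70.SzOut.eq_one_of_conj (good hF) (g := 1) (by rw [hσ, map_one])
    rw [h3, hr]
  exact h1.of_equiv (szE hm hF).symm

theorem sz_false (hm : 1 ≤ m) (hF : Fintype.card F = 2 ^ (2 * m + 1)) {σ : F ≃+* F} (hσ : σ ≠ 1)
    (hP : PP (fa hm hF σ)) : False := by
  have hfin : Finite (Cfsg.suzukiOvoid F m) := finite_ovoid F m
  obtain ⟨k₀, hk₀⟩ : ∃ a, σ a ≠ a := by
    by_contra hcon
    push Not at hcon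
    exact hσ (RingEquiv.ext hcon)
  have hk0 : k₀ ≠ 0 := by
    rintro rfl
    exact hk₀ (map_zero σ)
  let k : Fˣ := Units.mk0 k₀ hk0
  set s : Fˣ := k⁻¹ * Units.map (σ : F →* F) k with hs
  have hs1 : s ≠ 1 := by
    intro h1
    apply hk₀
    have h2 : Units.map (σ : F →* F) k = k := by
      rw [hs] at h1
      exact (inv_mul_eq_one.1 h1).symm
    exact congrArg Units.val h2
  have hA : (h hF k)⁻¹ * fa hm hF σ (h hF k) = h hF s := by
    rw [fa_h, h_inv, ← h_mul]
  set c : ↥(Cfsg.Sz F m) := u hF 1 0 * w hF * u hF 1 0 with hc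
  have hcf : fa hm hF σ c = c := by
    rw [hc, map_mul, map_mul, fa_u, fa_w, map_one, map_zero]
  set A : ↥(Cfsg.Sz F m) := h hF s with hAdef
  set B : ↥(Cfsg.Sz F m) := c * A * c⁻¹ with hBdef
  have hB : (h hF k * c⁻¹)⁻¹ * fa hm hF σ (h hF k * c⁻¹) = B := by
    rw [map_mul, map_inv, hcf, hBdef, ← hA]
    group
  have hsol := hP (h hF k) (h hF k * c⁻¹)
  rw [hA, hB] at hsol
  have H := hyp hm hF
  have hd : 1 < 2 ^ (2 * m + 1) - 1 := H98.SzPartition.one_lt_of_mem hm (Or.inl rfl)
  have hAi : A • inf F m = inf F m := h_smul_inf hF s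
  have hAz : A • zer F m = zer F m := h_smul_zer hF s
  have hci : c • inf F m = opt m 1 0 := by
    rw [hc, mul_smul, mul_smul, u_smul_inf, w_smul_inf, u_smul_zer]
  have hz1 : zc m (1 : F) 0 = 1 := by
    rw [zc_def]
    simp
  have hcz : c • zer F m = opt m 1 1 := by
    rw [hc, mul_smul, mul_smul, u_smul_zer, w_smul_opt hF 1 0 (by rw [hz1]; exact one_ne_zero), hz1, u_smul_opt]
    simp
  have hcc : ∀ p : Cfsg.suzukiOvoid F m, A • p = p → B • (c • p) = c • p := by
    intro p hp
    rw [hBdef, mul_smul, mul_smul, inv_smul_smul, hp]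
  have hBi : B • opt m 1 0 = opt m (1 : F) 0 := by
    have := hcc _ hAi
    rwa [hci] at this
  have hBz : B • opt m 1 1 = opt m (1 : F) 1 := by
    have := hcc _ hAz
    rwa [hcz] at this
  have hne1 : inf F m ≠ zer F m := zer_ne_inf.symm
  have hne2 : opt m (1 : F) 0 ≠ opt m 1 1 := by
    intro h1
    rw [opt_eq_iff] at h1
    exact zero_ne_one h1.2
  have hA1 : A ≠ 1 := by
    intro h1
    rw [← h_one hF, hAdef, h_eq_iff] at h1
    exact hs1 h1
  have hB1 : B ≠ 1 := by
    intro h1
    apply hA1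
    have : A = c⁻¹ * B * c := by rw [hBdef]; group
    rw [this, h1]
    group
  have hfA := H.fix2_of_mem hne1 hAi hAz hA1
  have hfB := H.fix2_of_mem hne2 hBi hBz hB1
  have hN := H.card_normalizer hd (e := 2) (fun g hg => norm_free hm hF g hg)
  have hzer : zer F m = opt m (0 : F) 0 := opt_zero_zero.symm
  have hdis : ∀ a : Cfsg.suzukiOvoid F m, A • a = a → B • a = a → False := by
    intro a h1 h2
    rcases (hfA a).1 h1 with rfl | rfl
    · rcases (hfB _).1 h2 with h3 | h3
      · exact opt_ne_inf _ _ h3.symm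
      · exact opt_ne_inf _ _ h3.symm
    · rw [hzer] at h2
      rcases (hfB _).1 h2 with h3 | h3
      · rw [opt_eq_iff] at h3
        exact zero_ne_one h3.1
      · rw [opt_eq_iff] at h3
        exact zero_ne_one h3.1
  rcases (H.solvable_iff hN hA1).1 hsol with ⟨a, h1, h2⟩ | ⟨T, hT, h1, h2⟩
  · exact hdis a h1 h2
  · obtain ⟨e, he⟩ := hN T hT
    have h3 : A ∈ T := IsT.mem_of_odd he h1 (H.odd_of_two hne1 hAi hAz)
    have h4 : B ∈ T := IsT.mem_of_odd he h2 (H.odd_of_two hne2 hBi hBz)
    have h5 := H.isT_two hd hne1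
    have h6 := IsT.eq_of_mem hT h5 h3 ⟨hAi, hAz⟩ hA1
    rw [h6] at h4
    exact hdis _ hAi h4.1

/-- **The Suzuki groups.** -/
theorem triv_Sz (hm : 1 ≤ m) (hF : Fintype.card F = 2 ^ (2 * m + 1)) {τ : MulAut ↥(Cfsg.Sz F m)}
    (hco : (orderOf τ).Coprime (Nat.card ↥(Cfsg.Sz F m))) (hP : PP τ) : τ = 1 := by
  obtain ⟨ρ, hρ, -⟩ := H254.exists_ringAut F
  obtain ⟨g, hg⟩ := copIn_sz hm hF hρ (Subgroup.zpowers τ) (by rw [Nat.card_zpowers]; exact hco)
  have h5 : g * τ * g⁻¹ ∈ Subgroup.zpowers (fa hm hF ρ) := by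
    apply hg
    exact ⟨τ, Subgroup.mem_zpowers τ, rfl⟩
  obtain ⟨k, hk⟩ := h5
  have h6 : g * τ * g⁻¹ = fa hm hF (ρ ^ k) := by rw [map_zpow]; exact hk.symm
  have hh : PP (g * τ * g⁻¹) := hP.congr g
  rw [h6] at hh
  by_contra hτ
  refine sz_false hm hF (σ := ρ ^ k) ?_ hh
  intro h7
  apply hτ
  rw [h7, map_one] at h6
  have h8 : τ = g⁻¹ * (g * τ * g⁻¹) * g := by group
  rw [h8, h6, mul_one, inv_mul_cancel]

end Cfsg.Agent.H520
end

private theorem dce_c2714429b2b2 : _root_.True := by
  try have : _root_.True := by simp only [_root_.Cfsg.Agent.H520.dgm.congr_simp]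
  try have : _root_.True := by simp only [_root_.Cfsg.Agent.H520.fa.congr_simp]
  exact _root_.True.intro
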