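import Mathlib
import Cfsg.Agent.H566.RgdExc_m3
import Cfsg.Agent.H520.Glob
import Cfsg.Agent.FastGrp
import Cfsg.Agent.Prune
set_option linter.all false
prune_inst 0x7f00000000000000000000000000000000000000000000000000000000000000000000000000000000000000000000000000000000000000000000000000000000000000000000000000000000000000003fffffffffffffffffffffffffffbeffbdffffffff
open scoped Cfsg.Agent.FastGrp

-- part: H520/LemC
section
/-!
# Groups with at most two orbits on a `p`-group (helper520)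

* `lemC` : if `T` has at most two orbits on the nonidentity elements of the `p`-group `X`, every odd prime divisor of
  `p - 1` divides the order of `T`.
-/

set_option autoImplicit false

namespace Cfsg.Agent.H520

open Cfsg.Agent.H566

theorem exists_same {Y : Type*} [Group Y] {T X : Subgroup Y} (h : TwoCls T X) (f : ℕ → Y) (hf : ∀ i, f i ∈ X)
    (hf1 : ∀ i, f i ≠ 1) : ∃ i j, j < i ∧ i ≤ 2 ∧ ∃ b ∈ T, b * f j * b⁻¹ = f i := by
  obtain ⟨u₀, -, -, u₁, -, -, h2⟩ := h.out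
  have key : ∀ (u : Y) (i j : ℕ), (∃ b ∈ T, b * u * b⁻¹ = f i) → (∃ b ∈ T, b * u * b⁻¹ = f j) →
      ∃ b ∈ T, b * f j * b⁻¹ = f i := by
    rintro u i j ⟨b, hb, e⟩ ⟨c, hc, e'⟩
    refine ⟨b * c⁻¹, mul_mem hb (inv_mem hc), ?_⟩
    rw [← e, ← e']
    group
  rcases h2 (f 0) (hf 0) (hf1 0) with h0 | h0 <;> rcases h2 (f 1) (hf 1) (hf1 1) with h1 | h1 <;>
    rcases h2 (f 2) (hf 2) (hf1 2) with h3 | h3
  · exact ⟨1, 0, by omega, by omega, key _ _ _ h1 h0⟩
  · exact ⟨1, 0, by omega, by omega, key _ _ _ h1 h0⟩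
  · exact ⟨2, 0, by omega, by omega, key _ _ _ h3 h0⟩
  · exact ⟨2, 1, by omega, by omega, key _ _ _ h3 h1⟩
  · exact ⟨2, 1, by omega, by omega, key _ _ _ h3 h1⟩
  · exact ⟨2, 0, by omega, by omega, key _ _ _ h3 h0⟩
  · exact ⟨1, 0, by omega, by omega, key _ _ _ h1 h0⟩
  · exact ⟨1, 0, by omega, by omega, key _ _ _ h1 h0⟩

/-- **Lemma C.** -/
theorem lemC {Y : Type*} [Group Y] [Finite Y] {T X : Subgroup Y} (h : TwoCls T X) {p r : ℕ} (hp : p.Prime)
    (hX : IsPGroup p X) (hr : r.Prime) (hr2 : r ≠ 2) (hrp : r ∣ p - 1) : r ∣ Nat.card T := by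
  have hpf : Fact p.Prime := ⟨hp⟩
  have hrf : Fact r.Prime := ⟨hr⟩
  -- an element of order `p`
  obtain ⟨x, hxX, hx⟩ : ∃ x ∈ X, orderOf x = p := by
    obtain ⟨u₀, h0, h0', -⟩ := h.out
    have hd : p ∣ Nat.card X := by
      obtain ⟨n, hn⟩ := IsPGroup.iff_card.1 hX
      rcases Nat.eq_zero_or_pos n with rfl | hn0
      · exfalso
        apply h0'
        have h1 : X = ⊥ := Subgroup.card_eq_one.1 (by rw [hn, pow_zero])
        rw [h1, Subgroup.mem_bot] at h0
        exact h0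
      · rw [hn]
        exact dvd_pow_self p hn0.ne'
    obtain ⟨x, hx⟩ := exists_prime_orderOf_dvd_card' p hd
    exact ⟨x.1, x.2, by rw [Subgroup.orderOf_coe]; exact hx⟩
  -- a unit of order `r`
  obtain ⟨η, hη⟩ := exists_prime_orderOf_dvd_card' (G := (ZMod p)ˣ) r (by
    rw [Nat.card_eq_fintype_card, ZMod.card_units_eq_totient, Nat.totient_prime hp]
    exact hrp)
  set c : ℕ := (η : ZMod p).val with hc
  have hcη : (c : ZMod p) = (η : ZMod p) := ZMod.natCast_zmod_val _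
  have hcop : ∀ i, (orderOf x).Coprime (c ^ i) := by
    intro i
    rw [hx]
    exact (ZMod.isUnit_iff_coprime (c ^ i) p |>.1 (by
      rw [Nat.cast_pow, hcη]
      exact (η.isUnit).pow i)).symm
  have hord : ∀ i, orderOf (x ^ c ^ i) = p := by
    intro i
    rw [(hcop i).orderOf_pow, hx]
  obtain ⟨i, j, hji, hi2, b, hb, e⟩ := exists_same h (fun i => x ^ c ^ i) (fun i => pow_mem hxX _) (fun i h1 => by
    have h2 := hord i
    rw [h1, orderOf_one] at h2
    exact hp.ne_one h2.symm)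
  have e' : b * (x ^ c ^ j) * b⁻¹ = (x ^ c ^ j) ^ (c ^ (i - j)) := by
    rw [← pow_mul, ← pow_add, show j + (i - j) = i by omega]
    exact e
  set y := x ^ c ^ j with hy
  have hpow : ∀ n, b ^ n * y * (b ^ n)⁻¹ = y ^ ((c ^ (i - j)) ^ n) := by
    intro n
    induction n with
    | zero => simp
    | succ n ih =>
      have h1 : b ^ (n + 1) * y * (b ^ (n + 1))⁻¹ = b * (b ^ n * y * (b ^ n)⁻¹) * b⁻¹ := by
        rw [pow_succ']
        group
      rw [h1, ih]
      have h2 : b * y ^ ((c ^ (i - j)) ^ n) * b⁻¹ = (b * y * b⁻¹) ^ ((c ^ (i - j)) ^ n) := by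
        rw [conj_pow]
      rw [h2, e', ← pow_mul, ← pow_succ']
  have h1 := hpow (orderOf b)
  rw [pow_orderOf_eq_one, one_mul, inv_one, mul_one] at h1
  have h2 : y ^ ((c ^ (i - j)) ^ orderOf b) = y ^ 1 := by rw [pow_one, ← h1]
  rw [pow_eq_pow_iff_modEq, hord j, ← ZMod.natCast_eq_natCast_iff] at h2
  rw [Nat.cast_pow, Nat.cast_pow, Nat.cast_one, hcη] at h2
  have h3 : (η ^ (i - j)) ^ orderOf b = 1 := by
    apply Units.ext
    rw [Units.val_pow_eq_pow_val, Units.val_pow_eq_pow_val, h2, Units.val_one]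
  rw [← pow_mul] at h3
  have h4 : r ∣ (i - j) * orderOf b := hη ▸ orderOf_dvd_of_pow_eq_one h3
  rcases (hr.dvd_mul).1 h4 with h5 | h5
  · exfalso
    have h6 := Nat.le_of_dvd (by omega) h5
    have h7 := hr.two_le
    apply hr2
    omega
  · refine h5.trans ?_
    have h6 : orderOf (⟨b, hb⟩ : T) ∣ Nat.card T := orderOf_dvd_natCard _
    rwa [← Subgroup.orderOf_coe] at h6

end Cfsg.Agent.H520
end

-- part: H520/Rgd
section
/-!
# Root group data (helper520)

* `GD M` : a condition on the diagram, all nodes are fixed by automorphisms of order prime to `6`;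
* `HasRGDR p G` : a generating root group datum with `TwoCls T (X α_i)` for a node, `GD M` and at least two nodes;
* `HasRGDR.triv` : there are no nontrivial automorphisms with `HH`.
-/

set_option autoImplicit false
set_option linter.unusedSectionVars false

namespace Cfsg.Agent.H520

open Subgroup Cfsg.Agent.Schreier.Tools Cfsg.Agent.Schreier.BNSch Cfsg.Agent.H566
open CoxeterSystem Cfsg.Agent.ChevalleyStructure.CoxeterGeom Cfsg.Agent.Tits.Roots Cfsg.Agent.Tits.Core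
  Cfsg.Agent.Tits.RootComb Cfsg.Agent.Nodes.Comb Cfsg.Agent.Nodes.Reps Cfsg.Agent.Nodes.BNOf Cfsg.Agent.FixBN

/-- The condition on the diagram. -/
def GD {l : ℕ} (M : CoxeterMatrix (Fin l)) : Prop :=
  ∃ v : ℕ, (Finset.univ.filter fun k => val M k = v).card ≤ 4 ∧ (∀ k, val M k ≤ 4) ∧
    ∃ rk : Fin l → ℕ, ∀ i, val M i = v ∨ ∃ j, (j ≠ i ∧ M j i ≠ 2) ∧ rk j < rk i

/-- A generating root group datum with a good diagram. -/
def HasRGDR (p : ℕ) (G : Type*) [Group G] : Prop :=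
  ∃ (l : ℕ) (M : CoxeterMatrix (Fin l)) (i : Fin l) (A : Fin l → Fin l → ℤ) (h : IsCartan M A) (T : Subgroup G)
    (n : Fin l → G) (X : (Fin l → ℤ) → Subgroup G), Finite M.Group ∧ RGD M.toCoxeterSystem h p T n X ∧
      Nodes.RGDLib.G1 M.toCoxeterSystem h X = ⊤ ∧ TwoCls T (X (sr i)) ∧ GD M ∧ 2 ≤ l

theorem coprime_six {K : Type*} [Group K] (h2 : 2 ∣ Nat.card K) (h3 : 3 ∣ Nat.card K) {τ : MulAut K}
    (hτ : (orderOf τ).Coprime (Nat.card K)) : (orderOf τ).Coprime 6 :=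
  hτ.coprime_dvd_right (Nat.Coprime.mul_dvd_of_dvd_of_dvd (by norm_num) h2 h3)

theorem coprime_sub_one {K : Type*} [Group K] [Finite K] {T X : Subgroup K} (h : TwoCls T X) {p : ℕ} (hp : p.Prime)
    (hX : IsPGroup p X) (h2 : 2 ∣ Nat.card K) {τ : MulAut K} (hτ : (orderOf τ).Coprime (Nat.card K)) :
    (orderOf τ).Coprime (p - 1) := by
  by_contra hcon
  obtain ⟨r, hr, hr1⟩ := Nat.exists_prime_and_dvd hcon
  have h3 : r ∣ orderOf τ := hr1.trans (Nat.gcd_dvd_left _ _)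
  have h4 : r ∣ p - 1 := hr1.trans (Nat.gcd_dvd_right _ _)
  have h5 : r ∣ Nat.card K := by
    by_cases hr2 : r = 2
    · rw [hr2]; exact h2
    · exact (lemC h hp hX hr hr2 h4).trans (card_subgroup_dvd_card T)
  have h6 := Nat.dvd_gcd h3 h5
  rw [hτ] at h6
  exact hr.one_lt.ne' (Nat.dvd_one.1 h6)

theorem HasRGDR.triv {p : ℕ} (hp : p.Prime) {G : Type*} [Group G] [Finite G] [IsSimpleGroup G]
    (h2 : 2 ∣ Nat.card G) (h3 : 3 ∣ Nat.card G) (hG : HasRGDR p G) {τ : MulAut G} (hτ : HH τ) : τ = 1 := by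
  obtain ⟨l, M, i, A, h, T, n, X, hW, R, hX, hc, ⟨v, hv, hv4, rk, hrk⟩, hl⟩ := hG
  have hgen : RGD.B M.toCoxeterSystem h T X ⊔ NN M.toCoxeterSystem R.nsys = ⊤ := by
    rw [eq_top_iff, ← hX]
    exact Nodes.RGDLib.rgd_G1_le R
  have : Fact p.Prime := ⟨hp⟩
  have hne : (R.bnPair hgen).S.Nonempty := ⟨n i, i, rfl⟩
  have hS := SplitRGD.split_of_rgd hp R hgen (Cfsg.Agent.Tits.OfBN.normalCore_eq_bot (R.bnPair hgen) hne)
  obtain ⟨m, hm, hH⟩ := hS.tor
  have hXU : X (sr i) ≤ RGD.Sup X (RGD.Pos M.toCoxeterSystem h) :=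
    RGD.le_Sup ⟨isRoot_sr M.toCoxeterSystem h i, sr_nonneg i⟩
  have hXp : IsPGroup p (X (sr i)) := hS.isP.to_le hXU
  refine rBN (R.bnPair hgen) (p := p) (RGD.Sup X (RGD.Pos M.toCoxeterSystem h)) hS.isP hS.le hS.norm hS.cover m hm hH
    hS.node hne ?_ (fun τ hτ => coprime_sub_one hc hp hXp h2 hτ.1) ?_ hτ
  · rintro _ ⟨j, rfl⟩
    have h1 : ∃ k : Fin l, k ≠ j := by
      by_cases hj : (j : ℕ) = 0
      · exact ⟨⟨1, by omega⟩, fun e => by
          have := congrArg Fin.val e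
          simp only at this
          omega⟩
      · exact ⟨⟨0, by omega⟩, fun e => by
          have := congrArg Fin.val e
          simp only at this
          omega⟩
    obtain ⟨k, hk⟩ := h1
    exact ⟨n k, ⟨k, rfl⟩, fun e => hk (R.n_injective e).symm⟩
  · intro τ hτ hB
    let dr : DecidableRel (fun i j : Fin l => i ≠ j ∧ M i j ≠ 2) := fun i j =>
      inferInstanceAs (Decidable (i ≠ j ∧ M i j ≠ 2))
    refine perm_of_graph (R.bnPair hgen) n rfl R.n_injective (fun i j => i ≠ j ∧ M i j ≠ 2)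
      (fun i h => h.1 rfl) ?_ v hv hv4 rk hrk (coprime_six h2 h3 hτ.1) hB
    intro i j hij
    constructor
    · rintro ⟨-, h3⟩ h4
      exact h3 ((comm_mem_iff R hij).1 h4)
    · intro h3
      exact ⟨hij, fun h4 => h3 ((comm_mem_iff R hij).2 h4)⟩

end Cfsg.Agent.H520
end

-- part: H520/Diag
section
/-!
# The diagrams of the families (helper520)
-/

set_option autoImplicit false

namespace Cfsg.Agent.H520

open Cfsg.Agent.H566 Cfsg.Agent

/-- paths -/
theorem gd_path {l : ℕ} (M : CoxeterMatrix (Fin l)) (hl : 0 < l)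
    (hM : ∀ i j : Fin l, i ≠ j → (M i j ≠ 2 ↔ (i : ℕ) + 1 = j ∨ (j : ℕ) + 1 = i)) : GD M := by
  refine ⟨val M ⟨0, hl⟩, (card_val_path M hl hM).trans (by norm_num), ?_, fun i => i, ?_⟩
  · intro k
    have hk := k.2
    have h2 : (Finset.univ.filter fun j => k ≠ j ∧ M k j ≠ 2) ⊆
        {⟨(k : ℕ) - 1, by omega⟩, ⟨if (k : ℕ) + 1 < l then (k : ℕ) + 1 else 0, by split_ifs <;> omega⟩} := by
      intro j hj
      rw [Finset.mem_filter] at hj
      have h3 := (hM _ _ hj.2.1).1 hj.2.2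
      rw [Finset.mem_insert, Finset.mem_singleton, Fin.ext_iff, Fin.ext_iff]
      simp only
      have hj2 := j.2
      split_ifs <;> omega
    exact ((Finset.card_le_card h2).trans Finset.card_le_two).trans (by norm_num)
  · intro i
    by_cases hi : (i : ℕ) = 0
    · left
      congr 1
      exact Fin.ext hi
    · right
      have hne : (⟨(i : ℕ) - 1, by omega⟩ : Fin l) ≠ i := fun e => by
        have := congrArg Fin.val e
        simp only at this
        omega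
      exact ⟨⟨(i : ℕ) - 1, by omega⟩, ⟨hne, (hM _ _ hne).2 (Or.inl (by simp only; omega))⟩, by simp only; omega⟩

theorem gd_A {n : ℕ} (hn : 0 < n) : GD (LieRecognition.BNCox.cA n) := by
  refine gd_path _ hn fun i j hij => ?_
  have hij' : (i : ℕ) ≠ j := fun e => hij (Fin.ext e)
  change LieRecognition.CoxClass.mA (i : ℕ) (j : ℕ) ≠ 2 ↔ _
  unfold LieRecognition.CoxClass.mA
  split_ifs <;> omega

theorem gd_B {n : ℕ} (hn : 0 < n) : GD (CoxeterMatrix.B n) := by
  refine gd_path _ hn fun i j hij => ?_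
  have hij' : (i : ℕ) ≠ j := fun e => hij (Fin.ext e)
  have hi := i.2
  have hj := j.2
  simp only [CoxeterMatrix.B, Matrix.of_apply, hij, if_false]
  split_ifs <;> omega

theorem gd_D (n : ℕ) : GD (Nodes.TypeD.M (n + 2)) := by
  have hM : ∀ i j : Fin (n + 4), i ≠ j → ((Nodes.TypeD.M (n + 2)) i j ≠ 2 ↔
      Nodes.TypeD.Adj i j ∨ Nodes.TypeD.Adj j i) := by
    intro i j hij
    rw [Nodes.TypeD.M_apply, if_neg hij]
    split_ifs with h <;> simp [h]
  refine ⟨val (Nodes.TypeD.M (n + 2)) ⟨n + 1, by omega⟩, (card_val_D n).trans (by norm_num), ?_,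
    fun i => if (i : ℕ) ≤ n + 1 then n + 1 - i else 1, ?_⟩
  · intro k
    have hk2 := k.2
    have h2 : (Finset.univ.filter fun j => k ≠ j ∧ (Nodes.TypeD.M (n + 2)) k j ≠ 2) ⊆
        {⟨(k : ℕ) - 1, by omega⟩, ⟨if (k : ℕ) ≤ n then (k : ℕ) + 1 else n + 1, by split_ifs <;> omega⟩,
          ⟨n + 2, by omega⟩, ⟨n + 3, by omega⟩} := by
      intro j hj
      rw [Finset.mem_filter] at hj
      have h3 := (hM _ _ hj.2.1).1 hj.2.2
      rw [Finset.mem_insert, Finset.mem_insert, Finset.mem_insert, Finset.mem_singleton, Fin.ext_iff, Fin.ext_iff,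
        Fin.ext_iff, Fin.ext_iff]
      unfold Nodes.TypeD.Adj at h3
      simp only
      have hj2 := j.2
      split_ifs <;> omega
    exact (Finset.card_le_card h2).trans Finset.card_le_four
  · intro i
    have hi := i.2
    by_cases h1 : (i : ℕ) = n + 1
    · left
      congr 1
      exact Fin.ext h1
    · right
      rcases Nat.lt_or_ge (i : ℕ) (n + 1) with h2 | h2
      · have hne : (⟨(i : ℕ) + 1, by omega⟩ : Fin (n + 4)) ≠ i := fun e => by
          have := congrArg Fin.val e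
          simp only at this
          omega
        refine ⟨⟨(i : ℕ) + 1, by omega⟩, ⟨hne, (hM _ _ hne).2 (Or.inr (Or.inl ⟨by simp only; omega, rfl⟩))⟩, ?_⟩
        simp only
        split_ifs <;> omega
      · have hne : (⟨n + 1, by omega⟩ : Fin (n + 4)) ≠ i := fun e => by
          have := congrArg Fin.val e
          simp only at this
          omega
        refine ⟨⟨n + 1, by omega⟩, ⟨hne, (hM _ _ hne).2 (Or.inl ?_)⟩, ?_⟩
        · unfold Nodes.TypeD.Adj
          show (i : ℕ) < n + 2 + 1 ∧ n + 1 + 1 = (i : ℕ) ∨ (i : ℕ) = n + 2 + 1 ∧ n + 1 + 2 = (i : ℕ)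
          (clear * - h1 h2; omega)
        · simp only
          split_ifs <;> omega

theorem gd_G : GD CoxeterMatrix.G₂ :=
  ⟨val CoxeterMatrix.G₂ 0, by decide +kernel, by decide +kernel, ![0, 0], by decide +kernel⟩

theorem gd_F : GD CoxeterMatrix.F₄ :=
  ⟨val CoxeterMatrix.F₄ 1, by decide +kernel, by decide +kernel, ![1, 0, 0, 1], by decide +kernel⟩

theorem gd_E6 : GD CoxeterMatrix.E₆ :=
  ⟨val CoxeterMatrix.E₆ 3, by decide +kernel, by decide +kernel, ![2, 1, 1, 0, 1, 2], by decide +kernel⟩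

theorem gd_E7 : GD CoxeterMatrix.E₇ :=
  ⟨val CoxeterMatrix.E₇ 3, by decide +kernel, by decide +kernel, ![2, 1, 1, 0, 1, 2, 3], by decide +kernel⟩

theorem gd_E8 : GD CoxeterMatrix.E₈ :=
  ⟨val CoxeterMatrix.E₈ 3, by decide +kernel, by decide +kernel, ![2, 1, 1, 0, 1, 2, 3, 4], by decide +kernel⟩

end Cfsg.Agent.H520
end

-- part: H520/Fam
section
/-!
# The families with root group data of rank at least two (helper520)
-/

set_option autoImplicit false
set_option linter.unusedSectionVars false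

namespace Cfsg.Agent.H520

open Subgroup Cfsg.Agent.Schreier.Tools Cfsg.Agent.Schreier.BNSch Cfsg.Agent.H566
open CoxeterSystem Cfsg.Agent.ChevalleyStructure.CoxeterGeom Cfsg.Agent.Tits.Roots Cfsg.Agent.Tits.Core
  Cfsg.Agent.Tits.RootComb Cfsg.Agent.Nodes.Comb Cfsg.Agent.Nodes.Reps Cfsg.Agent.Nodes.BNOf Cfsg.Agent.FixBN

/-! ### Type `A_n` -/

section TypeA

open Nodes.RGDTypeA Cfsg.Agent.TitsThree.KSideA Matrix

variable {F : Type*} [Field F]

theorem rgdr_PSL [Finite F] (n : ℕ) (hn : 2 ≤ n) {p : ℕ} [Fact p.Prime] [CharP F p] :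
    HasRGDR p (Matrix.ProjectiveSpecialLinearGroup (Fin (n + 1)) F) := by
  have : Finite (LieRecognition.BNCox.cA n).Group :=
    Nodes.RootsA.finite_W (LieRecognition.BNCox.cA n).toCoxeterSystem (Nodes.RootsA.isCartan n)
  refine ⟨n, LieRecognition.BNCox.cA n, ⟨0, by omega⟩, Nodes.RootsA.AA n, Nodes.RootsA.isCartan n, _, _, _, this,
    Nodes.RGDTypeA.rgd_psl _ _, Nodes.RGDTypeA.G1_psl_eq_top _ _, ?_, gd_A (by omega), hn⟩
  refine (twoCls_SL _).map _ fun u hu h1 => ?_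
  refine H566.eq_one_of_central (Nodes.RGDTypeA.rgd (LieRecognition.BNCox.cA n).toCoxeterSystem
    (Nodes.RootsA.isCartan n) (p := p)) hu ?_
  rw [← ker_pr]
  exact h1

end TypeA

section Witt

open Cfsg.Agent.Nodes Cfsg.Agent.Nodes.WittAll Cfsg.Agent.Nodes.WittU Cfsg.Agent.Nodes.WittInst
  Cfsg.Agent.Nodes.WittRoot Cfsg.Agent.Nodes.WittRGD
  Cfsg.Agent.TitsThree.Siegel Cfsg.Agent.TitsThree.SiegelGen
  Cfsg.Agent.TitsThree.WittFrame Cfsg.Agent.TitsThree.WBridge Cfsg.Agent.TitsThree.WittWeyl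
  Cfsg.Agent.TitsThree.FrameCN

variable {F : Type*} [Field F] {V : Type*} [AddCommGroup V] [Module F V] {H : HForm F V} {n : ℕ}
  {Fr : Frame H (Fin n)}

theorem rgdr_C {K : Type*} [Group K] (M : Model Fr K) {p : ℕ} (hA : AmbT Fr p M.I) [Finite V] [Finite F]
    [Fact p.Prime] [CharP F p] {p0 : Fr.Adm} (hp0 : p0.c ≠ 0) (hn : 2 ≤ n) : HasRGDR p K := by
  have : Finite (V ≃ₗ[F] V) := Finite.of_injective (fun g : V ≃ₗ[F] V => (g : V → V)) DFunLike.coe_injective
  have hWf : Finite (CoxeterMatrix.B n).Group := TypeC.finite_W (CoxeterMatrix.B n).toCoxeterSystem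
  have hi : ((⟨0, by omega⟩ : Fin n) : ℕ) + 1 < n := by simp only; omega
  have hne : ((⟨0, by omega⟩, true) : Fin n × Bool).1 ≠ (TypeC.nx ⟨0, by omega⟩).1 := by
    unfold TypeC.nx; rw [dif_pos hi]; simp [Fin.ext_iff]
  refine ⟨n, CoxeterMatrix.B n, ⟨0, by omega⟩, TypeC.A n, TypeC.isCartan n, _, _, _, hWf,
    rgdC_model M hA hp0 (CoxeterMatrix.B n).toCoxeterSystem, WittModel.G1_eq_top _ (by omega) _, ?_,
    gd_B (by omega), hn⟩
  have h1 : TwoCls (Tor Fr M.I) (rg Fr (sr ⟨0, by omega⟩)) := by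
    rw [rg_sr, PG_ne Fr hne]
    exact twoCls_XG hne fun c hc => hX_mem_Tor hA hi hc
  refine (h1.subgroupOf M.I (fun g hg => hg.1) (hA.rg_le _)).map _ fun u hu h1 => ?_
  exact H566.eq_one_of_central (RGDLib.rgd_restrict (rgdC hA hp0 (CoxeterMatrix.B n).toCoxeterSystem) M.I
    (fun x _ => hA.rg_le x) (fun i => WittAll.nn_mem hA p0 i)) hu (WittAll.ker_le_center M h1)

theorem rgdr_PSU {F : Type*} [Field F] [Fintype F] {q N : ℕ} (hF : Fintype.card F = q ^ 2) (hN : 4 ≤ N) {p : ℕ}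
    [Fact p.Prime] [CharP F p] : HasRGDR p (Cfsg.PSU N F q) := by
  obtain ⟨m, hm⟩ : ∃ m, N = 2 * m ∨ N = 2 * m + 1 := ⟨N / 2, by omega⟩
  obtain ⟨W, -⟩ := exists_wframe hF hm
  obtain ⟨p0, hp0, -⟩ := exists_adm hF W
  exact rgdr_C (TitsThree.KInstU.model hF (by omega) W) (AmbT.of_amb (amb_U hF W) p) hp0 (by omega)

theorem rgdr_PSp {F : Type*} [Field F] [Finite F] {m : ℕ} (hm : 2 ≤ m) {p : ℕ}
    [Fact p.Prime] [CharP F p] : HasRGDR p (Cfsg.PSp m F) :=
  rgdr_C (TitsThree.KInstSp.model m F) (AmbT.of_amb amb_Sp p) (p0 := TitsThree.SpIdent.adm 1) one_ne_zero hm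

end Witt

section Orthogonal

open QuadraticMap
open Cfsg.Agent.LieClassical Cfsg.Agent.LieClassical.OrthCore Cfsg.Agent.LieClassical.OrthTrans
open Cfsg.Agent.LieClassical.OrthSimple Cfsg.Agent.LieClassical.OrthFinite
open Cfsg.Agent.LieClassical.OrthForms
open Cfsg.Agent.TitsThree.KSideO Cfsg.Agent.TitsThree.StdData
open Cfsg.Agent.Nodes Cfsg.Agent.Nodes.WittAll Cfsg.Agent.Nodes.WittU Cfsg.Agent.Nodes.WittInst
  Cfsg.Agent.TitsThree.Siegel Cfsg.Agent.TitsThree.SiegelGen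
  Cfsg.Agent.TitsThree.WittFrame Cfsg.Agent.TitsThree.WBridge Cfsg.Agent.TitsThree.WittWeyl
  Cfsg.Agent.TitsThree.FrameCN

variable {F : Type*} [Field F] {m : ℕ}

theorem rgdr_PO_odd [Finite F] (h2 : (2 : F) ≠ 0) (hm : 2 ≤ m) {p : ℕ} [Fact p.Prime] [CharP F p] :
    HasRGDR p (Cfsg.POmega F (Cfsg.quadFormOdd m F)) := by
  rw [← coe_oddForm]
  have hG : _root_.Cfsg.Agent.LieClassical.OrthTrans.Good (oddForm m F) := by
    apply good_of_finite (nondeg_oddForm m F h2)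
    rw [Module.finrank_fintype_fun_eq_card, Fintype.card_sum, Fintype.card_sum, Fintype.card_fin,
      Fintype.card_unit]
    omega
  have hp : ((embOdd m F).ngt ⟨1, -1 ^ 2, rfl⟩).c ≠ 0 := by
    change (1 : F)⁻¹ * (-1 ^ 2) ≠ 0
    simp
  exact rgdr_C (model (wodd m F) hG ⟨_, hp⟩) (AmbT.of_amb (amb_O_of_two _ h2) p) hp (by omega)

theorem rgdr_PO_minus [Finite F] {a b : F} (hab : ∀ z₁ z₂ : F, z₁ ^ 2 + a * z₁ * z₂ + b * z₂ ^ 2 = 0 → z₁ = 0 ∧ z₂ = 0)
    (hm : 2 ≤ m) {p : ℕ} [Fact p.Prime] [CharP F p] :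
    HasRGDR p (Cfsg.POmega F (Cfsg.quadFormMinus m F a b)) := by
  rw [← coe_minusForm]
  have hG : _root_.Cfsg.Agent.LieClassical.OrthTrans.Good (minusForm m F a b) := by
    apply good_of_finite (nondeg_minusForm m F a b hab)
    rw [Module.finrank_fintype_fun_eq_card, Fintype.card_sum, Fintype.card_sum, Fintype.card_fin,
      Fintype.card_fin]
    omega
  have hp : ((embMinus m F a b hab).ngt ⟨(1, 0), -nf a b (1, 0), rfl⟩).c ≠ 0 := by
    change (1 : F)⁻¹ * (-nf a b (1, 0)) ≠ 0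
    simp [nf]
  have hA : AmbT (toFrame (wminus m F a b hab)) p (E (minusForm m F a b)) := by
    by_cases h2 : (2 : F) = 0
    · have hp2 : p = 2 := by
        have h3 : CharP F 2 := CharTwo.of_one_ne_zero_of_two_eq_zero one_ne_zero h2
        exact CharP.eq F ‹CharP F p› h3
      subst hp2
      exact ambT_O _ fun g hg hg2 hb => fixp_minus a b hab h2 hm hG hg hg2 hb
    · exact AmbT.of_amb (amb_O_of_two _ h2) p
  exact rgdr_C (model (wminus m F a b hab) hG ⟨_, hp⟩) hA hp (by omega)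

theorem rgdr_PO_plus [Finite F] (n : ℕ) {p : ℕ} [Fact p.Prime] [CharP F p] :
    HasRGDR p (Cfsg.POmega F (Cfsg.quadFormPlus (n + 4) F)) := by
  rw [← coe_plusForm]
  have hG : _root_.Cfsg.Agent.LieClassical.OrthTrans.Good (plusForm (n + 4) F) := by
    apply good_of_finite (nondeg_plusForm (n + 4) F)
    rw [Module.finrank_fintype_fun_eq_card, Fintype.card_sum, Fintype.card_fin]
    omega
  have hWf : Finite (Nodes.TypeD.M (n + 2)).Group := Nodes.TypeD.finite_W (Nodes.TypeD.M (n + 2)).toCoxeterSystem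
  refine ⟨n + 4, Nodes.TypeD.M (n + 2), ⟨n + 1, by omega⟩, Nodes.TypeD.A (n + 2), Nodes.TypeD.isCartan (n + 2), _, _, _,
    hWf, rgdD_model (wplus (n + 4) F) hG (amb_plus _) (adm_plus _) _,
    G1D_eq_top (wplus (n + 4) F) (toPOmega hG) (toPOmega_surjective hG) (adm_plus _) _, ?_, gd_D n, by omega⟩
  have hA := amb_plus (F := F) (n + 4)
  have hok := Nodes.TypeD.ok_nx (⟨n + 1, by omega⟩ : Fin (n + 4))
  have h1 : TwoCls (WittRGD.Tor (toFrame (wplus (n + 4) F)) (E (plusForm (n + 4) F)))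
      (WittRGDD.rg (toFrame (wplus (n + 4) F)) (sr (⟨n + 1, by omega⟩ : Fin (n + 4)))) := by
    rw [WittRGDD.rg_sr]
    exact twoCls_XG hok fun c hc => WittRGDD.tor_of_mono hA (WittRGDD.nX_mem hA _ _ _) (WittRGDD.nX_mem hA _ _ _)
      (WittRGDD.mono_nX' _ hc) (WittRGDD.mono_nX' _ one_ne_zero)
  refine (h1.subgroupOf (E (plusForm (n + 4) F)) (fun g hg => hg.1)
    (rgD_le (wplus (n + 4) F) hA _)).map _ fun u hu h1 => ?_
  exact H566.eq_one_of_central (RGDLib.rgd_restrict (rgdD hA (adm_plus _) (Nodes.TypeD.M (n + 2)).toCoxeterSystem) (p := p)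
    (E (plusForm (n + 4) F)) (fun x _ => rgD_le _ hA x) (fun i => WittRGDD.nn_mem hA i)) hu (ker_toPOmega hG h1)

end Orthogonal

open Cfsg.Lie Cfsg.Agent.ChevalleyStructure Cfsg.Agent.ChevalleyStructure.Elts
open Cfsg.Agent.Nodes.RGDChev
open Cfsg.Agent.ChevalleyStructure.RootVec Cfsg.Agent.ChevalleyStructure.RootVecTab
  Cfsg.Agent.ChevalleyStructure.NPerm Cfsg.Agent.ChevalleyStructure.CoxeterGeomTypes

universe u

theorem HasRGDR.of_equiv {p : ℕ} {G H : Type*} [Group G] [Group H] (e : G ≃* H) (hG : HasRGDR p G) : HasRGDR p H := by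
  obtain ⟨l, M, i, A, h, T, n, X, hW, R, hX, hc, hv⟩ := hG
  refine ⟨l, M, i, A, h, T.map e.toMonoidHom, fun i => e (n i), fun x => (X x).map e.toMonoidHom, hW,
    Nodes.RGDLib.rgd_map_of_injective R e.toMonoidHom e.injective, ?_,
    hc.map e.toMonoidHom (fun u _ hu => e.injective (hu.trans (map_one e).symm)), hv⟩
  have h1 : (Nodes.RGDLib.G1 M.toCoxeterSystem h X).map e.toMonoidHom =
      Nodes.RGDLib.G1 M.toCoxeterSystem h (fun x => (X x).map e.toMonoidHom) := by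
    unfold Nodes.RGDLib.G1 RGD.Sup
    rw [Subgroup.map_iSup]
  rw [← h1, hX, Subgroup.map_top_of_surjective _ e.surjective]

theorem rgdr_group {D : ChevalleyDatum} {l : ℕ} {M : CoxeterMatrix (Fin l)} (hp : IsType D l M) {K : Type u} [Field K]
    [Finite K] (p : ℕ) [CharP K p] (i : Fin l) (hv : GD M) (hl : 2 ≤ l) : HasRGDR p ↥(D.group K) := by
  have : Fact p.Prime := ⟨CharP.char_is_prime K p⟩
  exact ⟨l, M, i, _, hp.isCartan, _, _, _, finite_W hp M.toCoxeterSystem,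
    rgd (K := K) hp M.toCoxeterSystem p, G1_eq_top hp _, twoCls_group hp i, hv, hl⟩

theorem rgdr_of_exc {p : ℕ} {G : Type*} [Group G] (hG : IsExceptionalChevChar p G) : HasRGDR p G := by
  obtain ⟨F, _, _, _, ⟨-, ⟨e⟩⟩ | ⟨⟨e⟩⟩ | ⟨⟨e⟩⟩ | ⟨⟨e⟩⟩ | ⟨⟨e⟩⟩⟩ := hG
  · exact (rgdr_group (l := 2) (M := CoxeterMatrix.G₂) (by simp [IsType, typeList]) (K := F) p 0
      gd_G (by norm_num)).of_equiv e.symm
  · exact (rgdr_group (l := 4) (M := CoxeterMatrix.F₄) (by simp [IsType, typeList]) (K := F) p 1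
      gd_F (by norm_num)).of_equiv e.symm
  · exact (rgdr_group (l := 6) (M := CoxeterMatrix.E₆) (by simp [IsType, typeList]) (K := F) p 3
      gd_E6 (by norm_num)).of_equiv e.symm
  · exact (rgdr_group (l := 7) (M := CoxeterMatrix.E₇) (by simp [IsType, typeList]) (K := F) p 3
      gd_E7 (by norm_num)).of_equiv e.symm
  · exact (rgdr_group (l := 8) (M := CoxeterMatrix.E₈) (by simp [IsType, typeList]) (K := F) p 3
      gd_E8 (by norm_num)).of_equiv e.symm

theorem rgdr_twE6 {K : Type u} [Field K] [Fintype K] {q : ℕ} (hq : IsPrimePow q) (hK : Fintype.card K = q ^ 2)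
    (p : ℕ) [CharP K p] : HasRGDR p ↥(Lie.twistedE6 K q) := by
  have : Fact p.Prime := ⟨CharP.char_is_prime K p⟩
  obtain ⟨φ, hφ, hqq⟩ := ChevalleyStructure.TwE6Basic.exists_frob hq hK
  exact ⟨4, CoxeterMatrix.F₄, 1, _, Nodes.RGDTwE6.isCartan, _, _, _,
    Nodes.RGDFold.finite_W (hp := Nodes.RGDTwE6.hp) CoxeterMatrix.F₄.toCoxeterSystem Nodes.RGDTwE6.isCartan Nodes.RGDTwE6.foldData,
    Nodes.RGDTwE6.rgd _ hφ hqq p, Nodes.RGDTwE6.G1_eq_top _ hφ hqq, twoCls_twE6 hφ, gd_F, by norm_num⟩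

theorem rgdr_twD4 {K : Type u} [Field K] [Fintype K] {q : ℕ} (hq : IsPrimePow q) (hK : Fintype.card K = q ^ 3)
    (p : ℕ) [CharP K p] : HasRGDR p ↥(Lie.twistedD4 K q) := by
  have : Fact p.Prime := ⟨CharP.char_is_prime K p⟩
  obtain ⟨φ, hφ⟩ := ChevalleyStructure.D4Fixed.exists_frob hq hK
  exact ⟨2, CoxeterMatrix.G₂, 0, _, Nodes.RGDTwD4.isCartan, _, _, _,
    Nodes.RGDFold.finite_W (hp := Nodes.RGDTwD4.hp) CoxeterMatrix.G₂.toCoxeterSystem Nodes.RGDTwD4.isCartan Nodes.RGDTwD4.foldData,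
    Nodes.RGDTwD4.rgd _ hK hφ p, Nodes.RGDTwD4.G1_eq_top _ hK hφ, twoCls_twD4 hφ, gd_G, by norm_num⟩

theorem rgdr_of_tw {p : ℕ} {G : Type*} [Group G] (hG : IsTwistedE6D4Char p G) : HasRGDR p G := by
  obtain ⟨K, _, _, _, q, hq, ⟨hK, ⟨e⟩⟩ | ⟨hK, ⟨e⟩⟩⟩ := hG
  · exact (rgdr_twE6 hq hK p).of_equiv e.symm
  · exact (rgdr_twD4 hq hK p).of_equiv e.symm

end Cfsg.Agent.H520
end
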