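import Mathlib
import Cfsg.Agent.H520.Glob
import Cfsg.Agent.H566.TwFour
import Cfsg.Agent.H520.ReeT
import Cfsg.Agent.H686.CgPsp
import Cfsg.Agent.Phan.SU2Model
import Cfsg.Agent.H520.Fam
import Cfsg.Agent.H520.SzT
import Cfsg.Agent.H331.SCExc
import Cfsg.Agent.FastGrp
import Cfsg.Agent.Prune
set_option linter.all false
prune_inst 0x7f00000000000000000000000000000000000000000000000000000000000000000000000000000000000000000000000000000000000000000000000000000000000000000000000000000000000000003fffffffffffffffffffffffffffbeffbdffffffff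
open scoped Cfsg.Agent.FastGrp

-- part: H520/TwF
section
/-!
# The groups `²F₄(q)` (helper520)
-/

set_option autoImplicit false
set_option linter.unusedSectionVars false

namespace Cfsg.Agent.H520

open Cfsg.Lie Cfsg.Agent.H566
open Cfsg.Agent.ChevalleyStructure.TwF4.Rel
open Cfsg.Agent.ChevalleyStructure.TwF4.Groups Cfsg.Agent.ChevalleyStructure.TwF4.RankOne
open Cfsg.Agent.ChevalleyStructure.TwF4.Twisted Cfsg.Agent.ChevalleyStructure.TwF4.TwistedFix
open Cfsg.Agent.ChevalleyStructure.TwF4.BN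
open Cfsg.Agent.ChevalleyStructure.TwF4.Torus (T chi T_conj_X T_inr)
open Cfsg.Agent.ChevalleyStructure.TwF4.TwGen (tc chi_tc_24 chi_tc_25 chi_tc_33 chi_tc_27 chi28 chi30 pow_all)
open Cfsg.Agent.ChevalleyStructure.TwF4.TorusFix (mem_iff pow_unit T_rt rt)
open Cfsg.Agent.ChevalleyStructure.TwF4.Fix (Fix)
open Cfsg.Agent.Schreier.Basic Cfsg.Agent.Schreier.Tools Cfsg.Agent.Schreier.BNSch Cfsg.Agent.Schreier.BNUse
open Cfsg.Agent.Schreier.TwFFour

theorem node_le {K : Type*} [Group K] {P : Cfsg.BNPair K} {U : Subgroup K} (hUB : U ≤ P.B) {s : K} {V V' : Subgroup K}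
    (h : Node P U s V) (h' : Node P U s V') : V' ≤ V := fun v hv =>
  h.stab v (h'.le hv) (hUB (h'.le (h'.conj_s v hv)))

theorem triv_twF4 {K : Type*} [Field K] [Fintype K] {m : ℕ} (hK : Fintype.card K = 2 ^ (2 * m + 1))
    [Finite ↥(twistedF4 K (2 ^ m))] [IsSimpleGroup ↥(twistedF4 K (2 ^ m))] (h2 : 2 ∣ Nat.card ↥(twistedF4 K (2 ^ m)))
    {τ : MulAut ↥(twistedF4 K (2 ^ m))} (hτ : HH τ) : τ = 1 := by
  have : CharP K 2 := charP_two hK
  have : Fact (Nat.Prime 2) := ⟨Nat.prime_two⟩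
  obtain ⟨φ, hφ⟩ := exists_rln hK
  obtain ⟨P, hPB, hPN, hPS⟩ := exists_bnPair hφ
  have hB : P.B = B0 K (2 ^ m) := hPB
  have hdec := dec hK hφ
  have hUp := isPGroup_U0 hK
  have hone : ∀ i : Fin 2, (twistedData hφ).nG i ∈ P.S := fun i => by rw [hPS]; exact ⟨i, rfl⟩
  have hUB : U0 K (2 ^ m) ≤ P.B := by rw [hB]; exact U0_le_B0
  have hne : (twistedData hφ).nG 0 ≠ (twistedData hφ).nG 1 := by
    intro he
    have h2' : Node P (U0 K (2 ^ m)) ((twistedData hφ).nG 0) (V8 K (2 ^ m)) := by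
      rw [he]
      exact node2 hφ hB
    have h1 := node_le hUB (Cfsg.Agent.Schreier.TwFFour.node1 hφ hB) h2'
    have h3 : (⟨xa (2 ^ m) 1, xa_mem 1⟩ : ↥(twistedF4 K (2 ^ m))) ∈ V8 K (2 ^ m) := by
      show xa (2 ^ m) (1 : K) ∈ GA K (leB 7)
      refine GA_mono ?_ (xa_pos (2 ^ m) 1)
      intro r hr h
      have h4 := cls_pos (k := 1) (by norm_num) r hr h
      have h5 : cls r = 1 := of_decide_eq_true h
      unfold leB
      simp [h4, h5]
    have h6 := h1 h3
    exact one_ne_zero (xa_ge2 hφ.pos.ne' h6)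
  refine rBN P (p := 2) (U0 K (2 ^ m)) hUp hUB ?_ ?_ (2 ^ (2 * m + 1) - 1) ?_ ?_ ?_ ⟨_, hone 0⟩ ?_ ?_ ?_ hτ
  · intro b hb u hu
    rw [hB] at hb
    exact conj_U0 hb hu
  · intro b hb
    rw [hB] at hb
    obtain ⟨s, t, u, hu, hbu⟩ := hdec.1 b hb
    refine ⟨u, hu, ?_⟩
    rw [hPN, Subgroup.mem_subgroupOf, Subgroup.coe_mul, Subgroup.coe_inv, hbu, inv_mul_cancel_left]
    exact Cfsg.Agent.ChevalleyStructure.TwF4.NStruct.T_mem_N _
  · have h1 : 2 ∣ 2 ^ (2 * m + 1) := dvd_pow_self 2 (by omega)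
    have h2 : 0 < 2 ^ (2 * m + 1) := by positivity
    omega
  · intro h hh hN
    rw [hPB, Subgroup.mem_subgroupOf] at hh
    rw [hPN, Subgroup.mem_subgroupOf] at hN
    have h1 := borel_inf_N ⟨hh, hN⟩
    obtain ⟨s, t, hst⟩ := (mem_iff hK (h : GL chevF4.Idx K)).1 ⟨h1, h.2⟩
    apply Subtype.ext
    rw [Subgroup.coe_pow, hst, ← map_pow]
    have h2 : tc (2 ^ m) s t ^ (2 ^ (2 * m + 1) - 1) = 1 := by
      have h3 : ∀ x : Kˣ, x ^ (2 ^ (2 * m + 1) - 1) = 1 := by
        intro x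
        have h4 := pow_card_eq_one' (x := x)
        rwa [Nat.card_units, Nat.card_eq_fintype_card, hK] at h4
      funext l
      rw [Pi.pow_apply, h3]; rfl
    rw [h2, map_one]; rfl
  · intro s hs
    rw [hPS] at hs
    obtain ⟨i, rfl⟩ := hs
    have hi : i = 0 ∨ i = 1 := by
      revert i; decide
    rcases hi with rfl | rfl
    · exact ⟨V1 K (2 ^ m), Cfsg.Agent.Schreier.TwFFour.node1 hφ hB⟩
    · exact ⟨V8 K (2 ^ m), node2 hφ hB⟩
  · intro s hs
    rw [hPS] at hs
    obtain ⟨i, rfl⟩ := hs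
    have hi : i = 0 ∨ i = 1 := by
      revert i; decide
    rcases hi with rfl | rfl
    · exact ⟨_, hone 1, hne⟩
    · exact ⟨_, hone 0, hne.symm⟩
  · intro τ _
    rw [show 2 - 1 = 1 from rfl]
    exact Nat.coprime_one_right _
  · intro τ hτ hB' s hs
    have hc : (Nat.card (Subgroup.zpowers τ)).Coprime (Nat.card ↥(twistedF4 K (2 ^ m))) := by
      rw [Nat.card_zpowers]
      exact hτ.1
    rw [← stab_zpowers]
    refine stab_of_card_le_two P ?_ (odd_of_coprime hc h2) (stab_zpowers.2 hB') hs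
    rw [hPS]
    have : Nat.card (Set.range (twistedData hφ).nG) ≤ Nat.card (Fin 2) :=
      Nat.card_le_card_of_surjective (Set.rangeFactorization _) Set.rangeFactorization_surjective
    rwa [Nat.card_fin] at this

end Cfsg.Agent.H520
end

-- part: H520/PsuThree
section
/-!
# Coprime automorphisms of `PSU₃(q)` (helper520)

`triv_PSU3` : a coprime automorphism `τ` of `PSU₃(q)` with `[M, τ]` solvable for all proper invariant `M` is trivial.
-/

set_option autoImplicit false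

namespace Cfsg.Agent.H520

open Cfsg Subgroup Matrix Cfsg.Agent.ClassicalGeometry.UnitAutBasic Cfsg.Agent.ClassicalGeometry.PSUAutCount
  Cfsg.Agent.LieClassical.FieldTransfer Cfsg.Agent.LieClassical.SUBasic

variable {F : Type} [Field F] [Fintype F] {q : ℕ}

/-- `SU₂ → PSU₃` -/
def j3 (hF : Fintype.card F = q ^ 2) : SU 2 F q →* PSU 3 F q :=
  (pr 3 F q).comp (Phan.emb hF 0 (by norm_num : 0 + 2 ≤ 3))

omit [Fintype F] in
theorem mat_suCongr {n : ℕ} (σ : F ≃+* F) (g : SU n F q) :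
    Phan.mat (suCongr n q σ g) = (Phan.mat g).map (σ : F →+* F) := rfl

theorem fld_j3 (hF : Fintype.card F = q ^ 2) (σ : F ≃+* F) (g : SU 2 F q) :
    H254.PSUn.fld 3 q σ (j3 hF g) = j3 hF (suCongr 2 q σ g) := by
  rw [H254.PSUn.fld_apply]
  show toAut 1 σ (pr 3 F q (Phan.emb hF 0 (by norm_num : 0 + 2 ≤ 3) g)) = pr 3 F q _
  rw [toAut_pr]
  congr 1
  apply Phan.mat_inj
  have h1 : Phan.mat (semiConj 1 σ (Phan.emb hF 0 (by norm_num : 0 + 2 ≤ 3) g)) =
    gm (1 : Cfsg.GU 3 F q) * Phan.mat (suCongr 3 q σ (Phan.emb hF 0 (by norm_num : 0 + 2 ≤ 3) g)) * gm (1 : Cfsg.GU 3 F q)⁻¹ := rfl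
  rw [h1, inv_one, gm_one, one_mul, mul_one, mat_suCongr]
  unfold Phan.emb
  rw [Phan.mat_ext, Phan.mat_ext, Phan.extM_map, mat_suCongr]

theorem mat_emb_two (hF : Fintype.card F = q ^ 2) (g : SU 2 F q) :
    Phan.mat (Phan.emb hF 0 (by norm_num : 0 + 2 ≤ 3) g) 2 2 = 1 := by
  have h1 := Phan.emb_mulVec_lt hF (by norm_num : 0 + 2 ≤ 3) g (Pi.single 2 1) (x := 2) (Or.inr (by norm_num))
  rw [Matrix.mulVec_single_one, Pi.single_eq_same] at h1
  exact h1

theorem j3_inj (hF : Fintype.card F = q ^ 2) : Function.Injective (j3 hF : SU 2 F q →* PSU 3 F q) := by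
  rw [injective_iff_map_eq_one]
  intro g hg
  have h1 : Phan.emb hF 0 (by norm_num : 0 + 2 ≤ 3) g ∈ center (SU 3 F q) := by
    rw [← QuotientGroup.eq_one_iff]
    exact hg
  obtain ⟨c, hc, hc1⟩ := exists_norm_one hF
  apply Phan.emb_injective hF 0 (by norm_num : 0 + 2 ≤ 3)
  rw [map_one]
  apply Phan.mat_inj
  rw [Phan.mat_one]
  ext i j
  rcases eq_or_ne i j with rfl | hij
  · rw [Matrix.one_apply_eq]
    have h2 := diag_eq (le_refl 3) h1 i 2
    exact h2.trans (mat_emb_two hF g)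
  · rw [Matrix.one_apply_ne hij]
    exact offdiag_eq_zero (le_refl 3) hc hc1 h1 hij

theorem j3_range (hF : Fintype.card F = q ^ 2) : (j3 hF : SU 2 F q →* PSU 3 F q).range ≠ ⊤ := by
  intro h
  have hs : Equiv.Perm.sign (finRotate 3) = 1 := by decide
  have h1 : pr 3 F q (suPerm q (finRotate 3) hs) ∈ (j3 hF : SU 2 F q →* PSU 3 F q).range := by
    rw [h]; trivial
  obtain ⟨g, hg⟩ := h1
  have h2 : (suPerm q (finRotate 3) hs)⁻¹ * Phan.emb hF 0 (by norm_num : 0 + 2 ≤ 3) g ∈ center (SU 3 F q) :=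
    QuotientGroup.eq.1 hg.symm
  obtain ⟨z, hz, hz1⟩ : ∃ z ∈ center (SU 3 F q), Phan.emb hF 0 (by norm_num : 0 + 2 ≤ 3) g =
      suPerm q (finRotate 3) hs * z := ⟨_, h2, by rw [mul_inv_cancel_left]⟩
  obtain ⟨c, hc, hc1⟩ := exists_norm_one hF
  have h3 := mat_emb_two hF g
  rw [hz1, Phan.mat_mul, Matrix.mul_apply] at h3
  have h4 : ∀ i : Fin 3, i ≠ 2 → Phan.mat z i 2 = 0 := fun i hi => offdiag_eq_zero (le_refl 3) hc hc1 hz hi
  rw [Fin.sum_univ_three, h4 0 (by decide), h4 1 (by decide), mul_zero, mul_zero, zero_add, zero_add] at h3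
  have h5 : Phan.mat (suPerm q (finRotate 3) hs : SU 3 F q) 2 2 = 0 := by
    show ((finRotate 3).permMatrix F) 2 2 = 0
    rw [Equiv.Perm.permMatrix, PEquiv.toMatrix_apply]
    simp
  rw [h5, zero_mul] at h3
  exact zero_ne_one h3

/-- A field automorphism fixing all elements of norm one is trivial. -/
theorem eq_one_of_norm (hF : Fintype.card F = q ^ 2) {σ : F ≃+* F} (h : ∀ a : F, a ^ (q + 1) = 1 → σ a = a) (x : F) :
    σ x = x := by
  have hq : 2 ≤ q := LieClassical.HermBasic.two_le hF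
  have key : ∀ x : F, (σ x) ^ q * x = x ^ q * σ x := by
    intro x
    by_cases hx : x = 0
    · rw [hx, map_zero, mul_zero]
    · have h1 : (x ^ (q - 1)) ^ (q + 1) = 1 := by
        rw [← pow_mul]
        have h2 : (q - 1) * (q + 1) = Fintype.card F - 1 := by
          rw [hF]
          obtain ⟨k, rfl⟩ : ∃ k, q = k + 1 := ⟨q - 1, by omega⟩
          rw [Nat.add_sub_cancel]
          have : (k + 1) ^ 2 = k * (k + 1 + 1) + 1 := by ring
          rw [this, Nat.add_sub_cancel]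
        rw [h2]
        exact FiniteField.pow_card_sub_one_eq_one x hx
      have h3 := h _ h1
      rw [map_pow] at h3
      have h4 : σ x ^ q = σ x ^ (q - 1) * σ x := by rw [← pow_succ]; congr 1; omega
      have h5 : x ^ q = x ^ (q - 1) * x := by rw [← pow_succ]; congr 1; omega
      rw [h4, h5, h3]
      ring
  have key2 : ∀ x : F, x ^ q ≠ x → σ x = x := by
    intro x hx
    have hx0 : x ≠ 0 := by
      rintro rfl
      exact hx (LieClassical.HermBasic.zero_pow_q hF)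
    have h1 := key x
    have h2 := key (1 + x)
    rw [map_add, map_one, LieClassical.HermBasic.add_pow_q hF, LieClassical.HermBasic.add_pow_q hF, one_pow] at h2
    have h3 : (x ^ q - x) * (σ x - x) = 0 := by linear_combination x * h2 - (1 + x) * h1
    rcases mul_eq_zero.1 h3 with h4 | h4
    · exact absurd (sub_eq_zero.1 h4) hx
    · exact sub_eq_zero.1 h4
  by_cases hx : x ^ q = x
  · obtain ⟨y, hy⟩ := LieClassical.HermBasic.exists_not_fixed hF
    have h1 : (x + y) ^ q ≠ x + y := by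
      rw [LieClassical.HermBasic.add_pow_q hF, hx]
      exact fun h => hy (add_left_cancel h)
    have h2 := key2 _ h1
    rw [map_add, key2 y hy] at h2
    exact add_right_cancel h2
  · exact key2 x hx

/-- **The groups `PSU₃(q)`.** -/
theorem triv_PSU3 (hF : Fintype.card F = q ^ 2) (hq2 : q ≠ 2) [Finite (PSU 3 F q)] [IsSimpleGroup (PSU 3 F q)]
    (hna : ¬ IsMulCommutative (PSU 3 F q)) (h2 : 2 ∣ Nat.card (PSU 3 F q)) {τ : MulAut (PSU 3 F q)} (h : HH τ) :
    τ = 1 := by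
  have hq : 2 ≤ q := LieClassical.HermBasic.two_le hF
  obtain ⟨ρ, hρ, -⟩ := H254.exists_ringAut F
  have hc := H254.PSUn.copIn hF (le_refl 3) (fun h => hq2 h.2) hna ρ hρ
  obtain ⟨g, hg⟩ := hc (zpowers τ) (by rw [Nat.card_zpowers]; exact h.1)
  have h3 : g * τ * g⁻¹ ∈ zpowers (H254.PSUn.fld 3 q ρ) := by
    apply hg
    exact ⟨τ, mem_zpowers τ, rfl⟩
  obtain ⟨k, hk⟩ := h3
  have h4 : g * τ * g⁻¹ = H254.PSUn.fld 3 q (ρ ^ k) := by rw [map_zpow]; exact hk.symm
  have hh := h.conj g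
  rw [h4] at hh
  have h5 : H254.PSUn.fld (F := F) 3 q (ρ ^ k) = 1 → τ = 1 := by
    intro h6
    rw [h6] at h4
    have h7 : τ = g⁻¹ * (g * τ * g⁻¹) * g := by group
    rw [h7, h4, mul_one, inv_mul_cancel]
  apply h5
  generalize ρ ^ k = σ at hh
  have h6 : σ = 1 := by
    rcases Nat.lt_or_ge q 4 with h7 | h7
    · have h8 : q = 3 := by omega
      subst h8
      have h9 : Nat.card (F ≃+* F) = 2 := by
        have : Fact (Nat.Prime 3) := ⟨Nat.prime_three⟩
        exact Lib.FieldAutCard.card_ringAut (p := 3) (f := 2) (by norm_num) hF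
      have h10 : orderOf σ ∣ 2 := by rw [← h9]; exact orderOf_dvd_natCard σ
      have h11 := hh.1
      rw [H254.PSUn.orderOf_eq hF (le_refl 3)] at h11
      have h12 := Nat.dvd_gcd h10 (h10.trans h2)
      have h13 := Nat.dvd_gcd (dvd_refl (orderOf σ)) (h10.trans h2)
      rw [h11] at h13
      exact orderOf_eq_one_iff.1 (Nat.dvd_one.1 h13)
    · -- the subgroup `SU₂`
      have hK : Nat.card (Phan.fixedField hF) = q := Phan.card_fixedField hF
      obtain ⟨_, _, _, _, θ, _⟩ := Phan.exists_model hF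
      have : Fintype (Phan.fixedField hF) := Fintype.ofFinite _
      have h8 : QS (j3 hF : SU 2 F q →* PSU 3 F q).range :=
        (qs_sl (by rw [← Nat.card_eq_fintype_card, hK]; omega)).congr (θ.trans (MonoidHom.ofInjective (j3_inj hF)))
      have h9 := hh.fix (j3_range hF) (by
        rintro _ ⟨g, rfl⟩
        rw [fld_j3]
        exact ⟨_, rfl⟩) h8
      apply RingEquiv.ext
      intro x
      refine eq_one_of_norm hF ?_ x
      intro a ha
      have ha0 : a ≠ 0 := by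
        rintro rfl
        rw [zero_pow (Nat.succ_ne_zero q)] at ha
        exact zero_ne_one ha
      have h10 := h9 _ ⟨suDiag q ![a, a⁻¹] (by simp [ha0]) (by
        intro i
        fin_cases i
        · exact ha
        · show (a⁻¹) ^ (q + 1) = 1
          rw [inv_pow, ha, inv_one]), rfl⟩
      rw [fld_j3] at h10
      have h11 := congrArg Phan.mat (j3_inj hF h10)
      have h12 := congrFun (congrFun h11 0) 0
      exact h12
  rw [h6, map_one]

end Cfsg.Agent.H520
end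

-- part: H520/LieT
section
/-!
# Coprime automorphisms of the simple groups of Lie type (helper520)

`Triv G` : a coprime automorphism `τ` of `G` with `[M, τ]` solvable for all proper invariant subgroups `M` and with all
`⟨g⁻¹ τ(g), h⁻¹ τ(h)⟩` solvable is trivial.
`triv_of_lie`, `triv_of_three` : the simple groups of Lie type of order divisible by three, the groups of order prime to three.
-/

set_option autoImplicit false

namespace Cfsg.Agent.H520

open Cfsg

/-- no nontrivial coprime automorphism with solvable pairs -/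
def Triv (G : Type*) [Group G] : Prop := ∀ τ : MulAut G, HH τ → PP τ → τ = 1

theorem Triv.congr {G H : Type*} [Group G] [Group H] (e : G ≃* H) (h : Triv G) : Triv H := by
  intro τ h1 h2
  have h3 := h (MulAut.congr e.symm τ) (h1.congr e.symm) (h2.congr e.symm)
  rw [← map_one (MulAut.congr e.symm)] at h3
  exact (MulAut.congr e.symm).injective h3

theorem triv_of_model {G M : Type*} [Group G] [Group M] [Finite G] [IsSimpleGroup G] (hna : ¬ IsMulCommutative G)
    (h2 : 2 ∣ Nat.card G) (h3 : 3 ∣ Nat.card G) (e : G ≃* M)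
    (h : Finite M → IsSimpleGroup M → ¬ IsMulCommutative M → 2 ∣ Nat.card M → 3 ∣ Nat.card M → Triv M) : Triv G := by
  have h1 : Finite M := Finite.of_equiv G e.toEquiv
  have h5 : IsSimpleGroup M := e.symm.isSimpleGroup
  refine (h h1 h5 ?_ (by rwa [← Nat.card_congr e.toEquiv]) (by rwa [← Nat.card_congr e.toEquiv])).congr e.symm
  intro hc
  apply hna
  refine ⟨⟨fun a b => e.injective ?_⟩⟩
  rw [map_mul, map_mul]
  exact hc.is_comm.comm _ _

theorem triv_of_rgdr {G M : Type*} [Group G] [Group M] [Finite G] [IsSimpleGroup G] (hna : ¬ IsMulCommutative G)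
    (h2 : 2 ∣ Nat.card G) (h3 : 3 ∣ Nat.card G) (e : G ≃* M) {p : ℕ} (hp : p.Prime) (h : HasRGDR p M) : Triv G :=
  triv_of_model hna h2 h3 e fun _ _ _ h2 h3 _ hτ _ => h.triv hp h2 h3 hτ

/-- `3` does not divide the order of a Suzuki group -/
theorem not_three_sz {G : Type*} [Group G] (h : Lie.IsoSuzuki G) : ¬ 3 ∣ Nat.card G := by
  obtain ⟨F, _, _, m, hm, hF, ⟨e⟩⟩ := h
  rw [Nat.card_congr (e.trans (szE hm hF).symm).toEquiv]
  have hfin := H98.SzBasic.finite_ovoid F m
  exact (LieExceptional.SuzukiHyp.hyp hm hF).three_not_dvd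

/-- **The groups of Lie type of order divisible by three.** -/
theorem triv_of_lie {G : Type*} [Group G] [Finite G] [IsSimpleGroup G] (hna : ¬ IsMulCommutative G)
    (h2 : 2 ∣ Nat.card G) (h3 : 3 ∣ Nat.card G) {p : ℕ} (hp : p.Prime) (h : IsLieTypeChar p G) : Triv G := by
  have hpf : Fact p.Prime := ⟨hp⟩
  rcases h with h | h | h | h | h | h | h | h | ⟨-, h⟩ | ⟨-, h⟩ | ⟨-, h⟩
  · obtain ⟨F, _, _, _, n, hn, h4, ⟨e⟩⟩ := h
    rcases Nat.lt_or_ge n 3 with h5 | h5
    · obtain rfl : n = 2 := by omega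
      exact triv_of_model hna h2 h3 e fun _ _ hna h2 h3 τ hτ hP => triv_PSL2 (h4 rfl) hna h2 h3 hτ.1 hP
    · obtain ⟨n, rfl⟩ : ∃ k, n = k + 1 := ⟨n - 1, by omega⟩
      exact triv_of_rgdr hna h2 h3 e hp (rgdr_PSL n (by omega))
  · obtain ⟨F, _, _, _, m, hm, -, ⟨e⟩⟩ := h
    exact triv_of_rgdr hna h2 h3 e hp (rgdr_PSp hm)
  · obtain ⟨F, _, _, _, n, q, hF, hn, h32, ⟨e⟩⟩ := h
    rcases Nat.lt_or_ge n 4 with h4 | h4
    · obtain rfl : n = 3 := by omega
      exact triv_of_model hna h2 h3 e fun _ _ hna h2 _ τ hτ _ =>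
        triv_PSU3 hF (fun h => h32 ⟨rfl, h⟩) hna h2 hτ
    · exact triv_of_rgdr hna h2 h3 e hp (rgdr_PSU hF h4)
  · obtain ⟨F, _, _, _, m, hm, hodd, ⟨e⟩⟩ := h
    have h20 : (2 : F) ≠ 0 := by
      intro h20
      have h3 : CharP F 2 := CharTwo.of_one_ne_zero_of_two_eq_zero one_ne_zero h20
      obtain ⟨n, -, hn⟩ := FiniteField.card F 2
      rw [hn] at hodd
      exact absurd hodd (by
        rw [Nat.not_odd_iff_even]
        exact even_two.pow_of_ne_zero n.ne_zero)
    exact triv_of_rgdr hna h2 h3 e hp (rgdr_PO_odd h20 (by omega))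
  · obtain ⟨F, _, _, _, m, hm, ⟨e⟩⟩ := h
    obtain ⟨n, rfl⟩ : ∃ n, m = n + 4 := ⟨m - 4, by omega⟩
    exact triv_of_rgdr hna h2 h3 e hp (rgdr_PO_plus n)
  · obtain ⟨F, _, _, _, m, a, b, hm, hab, ⟨e⟩⟩ := h
    exact triv_of_rgdr hna h2 h3 e hp (rgdr_PO_minus hab (by omega))
  · exact triv_of_rgdr hna h2 h3 (MulEquiv.refl G) hp (rgdr_of_exc h)
  · exact triv_of_rgdr hna h2 h3 (MulEquiv.refl G) hp (rgdr_of_tw h)
  · exact absurd h3 (not_three_sz h)
  · obtain ⟨K, i1, i2, m, hm, hK, ⟨e⟩⟩ := h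
    exact triv_of_model hna h2 h3 e fun _ _ _ h2 _ τ hτ _ => triv_twF4 hK h2 hτ
  · obtain ⟨K, i1, i2, m, hm, hK, ⟨e⟩⟩ := h
    exact triv_of_model hna h2 h3 e fun _ _ _ _ _ τ hτ _ => triv_Ree hm hK hτ

/-- **The groups of order prime to three.** -/
theorem triv_of_three {G : Type*} [Group G] [Finite G] [IsSimpleGroup G] (hna : ∃ a b : G, a * b ≠ b * a)
    (h3 : ¬ 3 ∣ Nat.card G) : Triv G := by
  obtain ⟨F, _, _, m, hm, hF, ⟨e⟩⟩ := ThreePrime.Main.isoSuzuki hna h3
  have h1 : Triv ↥(Cfsg.Sz F m) := fun τ hτ hP => triv_Sz hm hF hτ.1 hP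
  exact h1.congr ((szE hm hF).trans e.symm)

end Cfsg.Agent.H520
end
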